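import Cfsg.Agent.H36.RankOneU3.System
import Cfsg.Agent.H48.RankOne.Distinguished
import Cfsg.Agent.H91.RankOne.Assembly
import Cfsg.Agent.H99.RankOne.Main

/-!
# The unitary branch of rank-one recognition

`unitaryBranch`: `H91.RankOne.UnitaryBranch` holds, so `H91.RankOne.reduce` gives the recognition
theorem.
-/

set_option autoImplicit false

namespace Cfsg.Agent.H36.RankOneU3

open MulAction

universe u v

theorem unitaryBranch : H91.RankOne.UnitaryBranch.{u, v} := by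
  intro G Ω _ _ _ _ a t Q hS h2 hgen ⟨d, hd, hd1, hdt⟩
  classical
  cases nonempty_fintype G
  have hV : (stabilizer G a ⊓ stabilizer G (t • a)) ⊓ Subgroup.centralizer {t} ≠ ⊥ := fun e =>
    hd1 (Subgroup.mem_bot.1 (e ▸ ⟨hd, Subgroup.mem_centralizer_singleton_iff.2 hdt⟩))
  obtain ⟨-, hsq, hcard⟩ := H99.RankOne.structure_Q hS h2 hgen hV
  obtain ⟨ω, hω, hne⟩ := H99.RankOne.Hecke.exists_goodHom hS h2 hV
  obtain ⟨F, iF, iFt, n, hn, hF, ⟨e⟩⟩ := closure_iso_psu hS h2 hcard hsq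
    fun s hs r hr he => H48.RankOne.eq_invol hS hω hs hr he hcard (Nat.succ_pos _)
      (H99.RankOne.coef_eq hS h2 hgen hω hne) h2 rfl hsq
  exact ⟨F, iF, iFt, n, hn, hF,
    ⟨(Subgroup.topEquiv.symm.trans (MulEquiv.subgroupCongr hgen.symm)).trans e⟩⟩

end Cfsg.Agent.H36.RankOneU3
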