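import Cfsg.Agent.H36.RankOneU3.Split

/-!
# The operators are additive in the scalar

If through every non-zero vector there is a row satisfying `Eqn`, the semiregular action comes from an
`F`-vector space structure.
-/

set_option autoImplicit false

namespace Cfsg.Agent.H36.RankOneU3

variable {F E : Type*} [Field F] [Fintype F] [CharP F 2] [AddCommGroup E] [Finite E]
  {μ : F → E →+ E}

/-- The row equation of a vector `X`. -/
structure Eqn (μ : F → E →+ E) (X : E) (φ : F → E) (s : F) : Prop where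
  ne : ∀ ε, φ ε ≠ 0
  s_ne : s ≠ 0
  rel : ∀ ε α, α ≠ 0 → ∃ γ, γ ≠ 0 ∧ μ α (φ ε) = X + μ γ (φ (ε + α + s + γ))

omit [CharP F 2] [Finite E] in
theorem Eqn.smul_ne (h : IsOp μ) {X : E} (hX : X ≠ 0) {φ : F → E} {s : F} (e : Eqn μ X φ s)
    (l ε : F) : μ l (φ ε) ≠ X := by
  intro hl
  by_cases hl0 : l = 0
  · subst hl0
    exact hX (by rw [← hl, h.zero])
  · obtain ⟨γ, hγ, hr⟩ := e.rel ε l hl0
    rw [hl, left_eq_add] at hr
    exact e.ne _ (h.inj hγ (hr.trans (map_zero _).symm))

/-- Additivity on an invariant subgroup which has an invariant complement. -/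
theorem add_on_invariant (h : IsOp μ) (hA : ∀ X : E, X ≠ 0 → ∃ φ s, Eqn μ X φ s) (π : E →+ E)
    (W : AddSubgroup E) (hWc : Nat.card W = Fintype.card F) (hinv : ∀ a, ∀ v ∈ W, μ a v ∈ W)
    (hπW : ∀ v, π v ∈ W) (hπ : ∀ a v, π (μ a v) = μ a (π v))
    (hker : ∀ v, π v = 0 → ∀ w, π w = 0 → v ≠ 0 → ∃ a, μ a v = w)
    (hid : ∀ v ∈ W, π v = v) {v : E} (hv : v ∈ W) (a b : F) : μ (a + b) v = μ a v + μ b v := by
  classical
  by_cases hv0 : v = 0
  · simp [hv0]
  obtain ⟨φ, s, e⟩ := hA v hv0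
  have hsum : ∀ u : E, π (u + π u) = 0 := fun u => by rw [map_add, hid _ (hπW u), h.two]
  -- the component outside `W`
  have hout : ∀ ε, φ ε + π (φ ε) ≠ 0 := by
    intro ε hc
    obtain ⟨c, hc'⟩ := h.orbit_surjective hWc hinv hv hv0
      (show φ ε ∈ W by rw [← neg_eq_of_add_eq_zero_left hc]; exact neg_mem (hπW _))
    have hc0 : c ≠ 0 := fun z => e.ne ε (by rw [← hc', z, h.zero])
    exact e.smul_ne h hv0 c⁻¹ ε (by rw [← hc', h.cancel hc0])
  set e₁ := φ 0 + π (φ 0)
  choose P hP using fun ε => hker e₁ (hsum _) (φ ε + π (φ ε)) (hsum _) (hout 0)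
  have hP0 : ∀ ε, P ε ≠ 0 := fun ε z => hout ε (by rw [← hP, z, h.zero])
  -- the normalised component in `W`
  let D : F → W := fun ε => ⟨μ (P ε)⁻¹ (π (φ ε)), hinv _ _ (hπW _)⟩
  have hD : ∀ ε α, α ≠ 0 → ∃ γ, γ ≠ 0 ∧ γ * P (ε + α + s + γ) = α * P ε ∧
      (D (ε + α + s + γ) : E) = D ε + μ (α * P ε)⁻¹ v := by
    intro ε α hα
    obtain ⟨γ, hγ, hr⟩ := e.rel ε α hα
    have h1 : μ α (π (φ ε)) = v + μ γ (π (φ (ε + α + s + γ))) := by
      rw [← hπ, hr, map_add, hid v hv, hπ]
    have h2 : μ (α * P ε) e₁ = μ (γ * P (ε + α + s + γ)) e₁ := by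
      rw [h.mul, h.mul, hP, hP, map_add, map_add, hr, h1]
      linear_combination (norm := abel) h.two v
    have h3 := h.orbit_injective (hout 0) h2
    refine ⟨γ, hγ, h3.symm, ?_⟩
    show μ (P _)⁻¹ (π (φ (ε + α + s + γ))) = μ (P ε)⁻¹ (π (φ ε)) + _
    have hc : ∀ u, μ (γ * P (ε + α + s + γ))⁻¹ (μ γ u) = μ (P (ε + α + s + γ))⁻¹ u := fun u => by
      rw [← h.mul, mul_inv_rev, mul_assoc, inv_mul_cancel₀ hγ, mul_one]
    have hc' : ∀ u, μ (α * P ε)⁻¹ (μ α u) = μ (P ε)⁻¹ u := fun u => by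
      rw [← h.mul, mul_inv_rev, mul_assoc, inv_mul_cancel₀ hα, mul_one]
    rw [← hc, ← hc', h3, ← map_add, h1]
    congr 1
    linear_combination (norm := abel) -h.two v
  let ν : W → F := fun y => (h.orbit_surjective hWc hinv hv hv0 y.2).choose
  have hν : ∀ y : W, μ (ν y) v = y := fun y =>
    (h.orbit_surjective hWc hinv hv hv0 y.2).choose_spec
  have hνi : Function.Injective ν := fun y z hyz => Subtype.ext (by rw [← hν, ← hν, hyz])
  have hν0 : ν 0 = 0 := h.orbit_injective hv0 (by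
    show μ (ν 0) v = μ 0 v
    rw [hν, h.zero]; rfl)
  -- `D` is onto
  have hsurj : Function.Surjective D := by
    intro y
    by_cases hy : y = D 0
    · exact ⟨0, hy.symm⟩
    have hb : ν (y + D 0) ≠ 0 := fun z => hy (by
      have := hνi (z.trans hν0.symm)
      exact (add_eq_zero_iff_eq_neg.1 this).trans
        (neg_eq_of_add_eq_zero_left (Subtype.ext (h.two _))))
    obtain ⟨γ, hγ, -, hd⟩ := hD 0 (ν (y + D 0) * P 0)⁻¹
      (inv_ne_zero (mul_ne_zero hb (hP0 0)))
    refine ⟨_, Subtype.ext (hd.trans ?_)⟩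
    rw [show ((ν (y + D 0) * P 0)⁻¹ * P 0)⁻¹ = ν (y + D 0) by field_simp [hP0 0], hν]
    rw [AddSubgroup.coe_add]
    linear_combination (norm := abel) h.two (D 0 : E)
  have hbij : Function.Bijective D := (Nat.bijective_iff_surjective_and_card D).2
    ⟨hsurj, by rw [hWc, Nat.card_eq_fintype_card]⟩
  let De := Equiv.ofBijective D hbij
  have key : ∀ w y : W, ν y * (De.symm (w + y) + De.symm w + s) =
      (P (De.symm w))⁻¹ + (P (De.symm (w + y)))⁻¹ := by
    intro w y
    by_cases hy : y = 0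
    · subst hy
      simp [hν0, CharTwo.add_self_eq_zero]
    have hy0 : ν y ≠ 0 := fun z => hy (hνi (z.trans hν0.symm))
    set ε := De.symm w
    obtain ⟨γ, hγ, hP', hd⟩ := hD ε (ν y * P ε)⁻¹ (inv_ne_zero (mul_ne_zero hy0 (hP0 ε)))
    set η := ε + (ν y * P ε)⁻¹ + s + γ with hη
    have hDε : D ε = w := De.apply_symm_apply w
    have : D η = w + y := Subtype.ext (hd.trans (by
      rw [hDε, show ((ν y * P ε)⁻¹ * P ε)⁻¹ = ν y by field_simp [hP0 ε], hν]; rfl))
    have hη' : De.symm (w + y) = η := De.symm_apply_eq.2 this.symm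
    rw [hη']
    have hγ' : γ = (ν y * P η)⁻¹ := by
      have h4 : γ * P η = (ν y)⁻¹ := by
        rw [hP', mul_inv, mul_assoc, inv_mul_cancel₀ (hP0 ε), mul_one]
      rw [mul_inv, ← h4, mul_assoc, mul_inv_cancel₀ (hP0 η), mul_one]
    have h2 := CharTwo.two_eq_zero (R := F)
    rw [show η + ε + s = (ν y * P ε)⁻¹ + γ by linear_combination hη + (ε + s) * h2, hγ', mul_add,
      mul_inv, mul_inv, ← mul_assoc, ← mul_assoc, mul_inv_cancel₀ hy0, one_mul, one_mul]
  let μW : F → W →+ W := fun c =>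
    AddMonoidHom.mk' (fun y => ⟨μ c y, hinv c y y.2⟩) fun y z => Subtype.ext (map_add _ _ _)
  have hadd := add_of_eqn (fun y => Subtype.ext (h.two _)) hνi hν0 μW
    (fun c y => h.orbit_injective hv0 (by
      show μ (ν (μW c y)) v = μ (c * ν y) v
      rw [hν, h.mul, hν]; rfl))
    (fun y => Subtype.ext (by
      rw [AddSubgroup.val_finsetSum]
      exact h.sum_eq_zero (y : E))) e.s_ne key
  have hνμ : ∀ c, ν ⟨μ c v, hinv c v hv⟩ = c := fun c => h.orbit_injective hv0 (hν _)
  have := hadd ⟨μ a v, hinv a v hv⟩ ⟨μ b v, hinv b v hv⟩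
  rw [hνμ, hνμ] at this
  rw [← this]
  exact hν _

/-- The scalar operators are additive. -/
theorem op_add (h : IsOp μ) (hA : ∀ X : E, X ≠ 0 → ∃ φ s, Eqn μ X φ s) (a b : F) (v : E) :
    μ (a + b) v = μ a v + μ b v := by
  classical
  obtain ⟨W, hWc, hinv⟩ := h.exists_invariant
  obtain ⟨π, hπW, hid, hπ⟩ := h.exists_proj hinv
  let π' : E →+ E := AddMonoidHom.id E + π
  have hπ'0 : ∀ u, π (π' u) = 0 := fun u => by
    show π (u + π u) = 0
    rw [map_add, hid _ (hπW u), h.two]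
  let W' : AddSubgroup E := π.ker
  have hinv' : ∀ c, ∀ u ∈ W', μ c u ∈ W' := fun c u hu => by
    have hu' : π u = 0 := hu
    show π (μ c u) = 0
    rw [hπ, hu', map_zero]
  have hWc' : Nat.card W' = Fintype.card F := by
    let e : E → W × W' := fun u => (⟨π u, hπW u⟩, ⟨π' u, hπ'0 u⟩)
    have he : Function.Bijective e := by
      refine ⟨fun u u' x => ?_, fun p => ⟨p.1 + p.2, ?_⟩⟩
      · have x1 : π u = π u' := congrArg (fun p : W × W' => (p.1 : E)) x
        have x2 : u + π u = u' + π u' := congrArg (fun p : W × W' => (p.2 : E)) x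
        rwa [x1, add_left_inj] at x2
      · have hp2 : π (p.2 : E) = 0 := p.2.2
        have hp : π ((p.1 : E) + p.2) = p.1 := by rw [map_add, hid _ p.1.2, hp2, add_zero]
        refine Prod.ext (Subtype.ext hp) (Subtype.ext ?_)
        show (p.1 : E) + p.2 + π ((p.1 : E) + p.2) = p.2
        rw [hp]
        linear_combination (norm := abel) h.two (p.1 : E)
    have := Nat.card_congr (Equiv.ofBijective e he)
    rw [Nat.card_prod, h.card, hWc, sq] at this
    exact (Nat.eq_of_mul_eq_mul_left Fintype.card_pos this).symm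
  have h1 := add_on_invariant h hA π W hWc hinv hπW hπ
    (fun u hu w hw hu0 => h.orbit_surjective hWc' hinv' hu hu0 hw) hid (hπW v) a b
  have h2 := add_on_invariant h hA π' W' hWc' hinv' hπ'0
    (fun c u => by simp [π', hπ, map_add])
    (fun u hu w hw hu0 => h.orbit_surjective hWc hinv
      (show u ∈ W by
        have : u + π u = 0 := hu
        rw [← neg_eq_of_add_eq_zero_left this]; exact neg_mem (hπW u)) hu0
      (show w ∈ W by
        have : w + π w = 0 := hw
        rw [← neg_eq_of_add_eq_zero_left this]; exact neg_mem (hπW w)))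
    (fun u hu => by
      have hu' : π u = 0 := hu
      show u + π u = u
      rw [hu', add_zero]) (hπ'0 v) a b
  have hv : v = π v + π' v := by
    show v = π v + (v + π v)
    linear_combination (norm := abel) -h.two (π v)
  rw [hv, map_add, map_add, map_add, h1, h2]
  abel

end Cfsg.Agent.H36.RankOneU3
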