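import Cfsg.Agent.H36.RankOneU3.Point
import Cfsg.Agent.H70.SzUnique.Fields
import Cfsg.Agent.S1122
import Cfsg.Agent.S1123
import Cfsg.Agent.S1128
import Cfsg.Agent.S1130
import Cfsg.Agent.S1131
import Mathlib.FieldTheory.Finite.GaloisField

/-!
# Field coordinates on the involutions of the point stabiliser

`Torus` gives a bijection `ι` from a field `F` onto `{z ∈ Q | z * z = 1}` and a homomorphism `κ` from
`Fˣ` onto the elements of `D` inverted by `t`, acting as multiplication, with `ι 1` the distinguished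
involution.
-/

set_option autoImplicit false

namespace Cfsg.Agent.H36.RankOneU3

open MulAction

variable {G Ω : Type*} [Group G] [Finite G] [MulAction G Ω] [FaithfulSMul G Ω] {a : Ω} {t : G}
  {Q : Subgroup G}

/-- Coordinates on the involutions of the point stabiliser and on the inverted subgroup. -/
structure Torus (a : Ω) (t : G) (Q : Subgroup G) (F : Type) [Field F] where
  /-- the coordinate on the involutions -/
  ι : F → G
  /-- the coordinate on the inverted subgroup -/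
  κ : Fˣ →* G
  ι_add : ∀ x y, ι (x + y) = ι x * ι y
  ι_inj : Function.Injective ι
  ι_mem : ∀ x, ι x ∈ Q
  ι_range : ∀ z ∈ Q, z * z = 1 → ∃ x, ι x = z
  ι_comm : ∀ x, ∀ y ∈ Q, ι x * y = y * ι x
  κ_inj : Function.Injective κ
  κ_mem : ∀ u, κ u ∈ stabilizer G a ⊓ stabilizer G (t • a)
  κ_inv : ∀ u, t * κ u * t = (κ u)⁻¹
  κ_conj : ∀ u x, κ u * ι x * (κ u)⁻¹ = ι ((u : F) * x)
  κ_free : ∀ u, u ≠ 1 → ∀ x ∈ Q, κ u * x * (κ u)⁻¹ = x → x = 1
  κ_normal : ∀ d ∈ stabilizer G a ⊓ stabilizer G (t • a), ∀ u, ∃ u', d * κ u * d⁻¹ = κ u'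
  base : t * ι 1 * t = ι 1 * t * ι 1

variable (hS : Cfsg.IsRankOneSetup G Ω a t Q)
  (h2 : ∃ x y : G, x ≠ 1 ∧ y ≠ 1 ∧ x ≠ y ∧ x * x = 1 ∧ y * y = 1 ∧ x * y = y * x)
include hS h2

omit [FaithfulSMul G Ω] in
/-- There are at least two involutions in the point stabiliser. -/
theorem exists_two_invol : ∃ s ∈ Cfsg.involutionsIn (stabilizer G a : Set G),
    ∃ s' ∈ Cfsg.involutionsIn (stabilizer G a : Set G), s ≠ s' := by
  obtain ⟨x, y, hx, hy, hxy, hx2, hy2, hc⟩ := h2
  obtain ⟨p, hp⟩ := H38.exists_fix hS hx2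
  have hyp : y • p = p := H38.commute_fix hS hx hx2 hc.symm hp
  obtain ⟨g, hg⟩ := H38.exists_smul hS p a
  have key : ∀ u : G, u ≠ 1 → u * u = 1 → u • p = p →
      g * u * g⁻¹ ∈ Cfsg.involutionsIn (stabilizer G a : Set G) := fun u hu hu2 hup =>
    ⟨by show (g * u * g⁻¹) • a = a; rw [← hg, mul_smul, inv_smul_smul, mul_smul, hup],
      by rwa [Ne, conj_eq_one_iff],
      by rw [show g * u * g⁻¹ * (g * u * g⁻¹) = g * (u * u) * g⁻¹ by group, hu2]; group⟩
  exact ⟨_, key x hx hx2 hp, _, key y hy hy2 hyp, fun e => hxy (by simpa using e)⟩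

/-- The coordinates exist; the field has as many elements as involutions and one. -/
theorem exists_torus
    (hrs : ∀ s ∈ Cfsg.involutionsIn (stabilizer G a : Set G), ∀ r ∈ Q,
      t * s * t = r⁻¹ * t * r → r = s) :
    ∃ (F : Type) (_ : Field F) (_ : Fintype F), CharP F 2 ∧ 4 ≤ Fintype.card F ∧
      Fintype.card F = Nat.card (Cfsg.involutionsIn (stabilizer G a : Set G)) + 1 ∧
      Nonempty (Torus a t Q F) := by
  classical
  obtain ⟨hI, hmul⟩ := S1130.result hS h2
  obtain ⟨⟨s, r⟩, ⟨hs, hr, he⟩, -⟩ := S1123.result hS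
  have hrs' := hrs s hs r hr he
  subst r
  obtain ⟨C, hC, hcyc, hCn⟩ := S1131.result hS h2
  obtain ⟨hKc, hKt⟩ := S1122.result hS
  -- the subgroup of involutions
  let Zs : Subgroup G :=
    { carrier := {z | z ∈ Q ∧ z * z = 1}
      one_mem' := ⟨one_mem _, one_mul _⟩
      mul_mem' := fun {x y} hx hy => by
        refine ⟨mul_mem hx.1 hy.1, ?_⟩
        by_cases hx1 : x = 1
        · rw [hx1, one_mul]; exact hy.2
        by_cases hy1 : y = 1
        · rw [hy1, mul_one]; exact hx.2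
        rcases hmul x ⟨hS.le hx.1, hx1, hx.2⟩ y ⟨hS.le hy.1, hy1, hy.2⟩ with h | h
        · rw [h, one_mul]
        · exact h.2.2
      inv_mem' := fun {x} hx => ⟨inv_mem hx.1, by rw [← mul_inv_rev, hx.2, inv_one]⟩ }
  have hZmem : ∀ z, z ∈ Zs ↔ z ∈ Q ∧ z * z = 1 := fun z => Iff.rfl
  have hZc : ∀ z ∈ Zs, ∀ y ∈ Q, z * y = y * z := by
    intro z hz y hy
    by_cases hz1 : z = 1
    · rw [hz1, one_mul, mul_one]
    · exact (hI z ⟨hS.le hz.1, hz1, hz.2⟩).2 y hy
  let _ : CommGroup Zs :=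
    { (inferInstance : Group Zs) with
      mul_comm := fun x y => Subtype.ext (hZc x x.2 y y.2.1) }
  have hZI : Nat.card Zs = Nat.card (Cfsg.involutionsIn (stabilizer G a : Set G)) + 1 := by
    have e : {z : Zs // z ≠ 1} ≃ (Cfsg.involutionsIn (stabilizer G a : Set G)) :=
      { toFun := fun z => ⟨z.1, hS.le z.1.2.1, fun e => z.2 (Subtype.ext e), z.1.2.2⟩
        invFun := fun z => ⟨⟨z, (hI z z.2).1, z.2.2.2⟩,
          fun e => z.2.2.1 (congrArg Subtype.val e)⟩
        left_inv := fun z => rfl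
        right_inv := fun z => rfl }
    have h3 := Nat.card_congr (Equiv.optionSubtypeNe (1 : Zs))
    rw [Finite.card_option, Nat.card_congr e] at h3
    exact h3.symm
  obtain ⟨n, hn⟩ : ∃ n, Nat.card Zs = 2 ^ n :=
    (IsPGroup.iff_card (p := 2)).1 fun z => ⟨1, Subtype.ext (by
      rw [pow_one, Subgroup.coe_pow, pow_two]; exact z.2.2)⟩
  have h3 : 3 ≤ Nat.card Zs := by
    obtain ⟨u, hu, u', hu', hne⟩ := exists_two_invol hS h2
    have h4 : 1 < Nat.card (Cfsg.involutionsIn (stabilizer G a : Set G)) :=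
      Finite.one_lt_card_iff_nontrivial.2 ⟨⟨u, hu⟩, ⟨u', hu'⟩, fun e => hne (congrArg Subtype.val e)⟩
    omega
  have hn2 : 2 ≤ n := by
    by_contra hlt
    rw [hn] at h3
    interval_cases n <;> norm_num at h3
  have hsZ : s ∈ Zs := ⟨(hI s hs).1, hs.2.2⟩
  have hCK : ∀ c, c ∈ C ↔ c ∈ Cfsg.invertedBy (stabilizer G a ⊓ stabilizer G (t • a)) t := fun c =>
    Set.ext_iff.1 hC c
  have hCD : ∀ c ∈ C, c ∈ stabilizer G a ⊓ stabilizer G (t • a) := fun c hc => ((hCK c).1 hc).1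
  have hconj : ∀ c ∈ C, ∀ z ∈ Zs, c * z * c⁻¹ ∈ Zs := fun c hc z hz =>
    ⟨hS.conj_mem c (hCD c hc).1 z hz.1,
      by rw [show c * z * c⁻¹ * (c * z * c⁻¹) = c * (z * z) * c⁻¹ by group, hz.2]; group⟩
  let actAut : C → MulAut Zs := fun c =>
    { toFun := fun z => ⟨c * z * (c : G)⁻¹, hconj c c.2 z z.2⟩
      invFun := fun z => ⟨(c : G)⁻¹ * z * c, by simpa using hconj _ (inv_mem c.2) z z.2⟩
      left_inv := fun z => Subtype.ext (by simp [mul_assoc])
      right_inv := fun z => Subtype.ext (by simp [mul_assoc])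
      map_mul' := fun z z' => Subtype.ext (by simp [mul_assoc]) }
  let act : C →* MulAut Zs := MonoidHom.mk' actAut fun c c' => MulEquiv.ext fun z => Subtype.ext (by
    show ((c * c' : C) : G) * z * ((c * c' : C) : G)⁻¹ = c * (c' * z * (c' : G)⁻¹) * (c : G)⁻¹
    rw [Subgroup.coe_mul]; group)
  let _ : CommGroup C := hcyc.commGroup
  have hfree : ∀ c ∈ C, c ≠ 1 → ∀ x ∈ Q, c * x * c⁻¹ = x → x = 1 := by
    intro c hc hc1 x hx he'
    have h4 := S1128.result hS h2 c ((hCK c).1 hc) hc1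
    refine Subgroup.mem_bot.1 (h4 ▸ ⟨hx, Subgroup.mem_centralizer_singleton_iff.2 ?_⟩)
    rw [mul_inv_eq_iff_eq_mul] at he'
    exact he'.symm
  let _ : Fintype (GaloisField 2 n) := Fintype.ofFinite _
  have hF : Fintype.card (GaloisField 2 n) = 2 ^ n := by
    rw [← Nat.card_eq_fintype_card, GaloisField.card 2 n (by omega)]
  obtain ⟨ι, κ, hιb, hκb, hadd, hι1, hact⟩ := H70.SzUnique.exists_coords act hn
    (by rw [← hn, hZI, ← hKc, ← hC]; rfl)
    (fun c v hv h4 => by
      by_contra hc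
      exact hv (Subtype.ext (hfree c c.2 (fun e => hc (Subtype.ext e)) v v.2.1
        (congrArg Subtype.val h4))))
    hF (v₀ := (⟨s, hsZ⟩ : Zs)) (fun e => hs.2.1 (congrArg Subtype.val e))
  refine ⟨GaloisField 2 n, inferInstance, inferInstance, inferInstance, ?_, ?_, ⟨{
    ι := fun x => (ι x : G)
    κ := C.subtype.comp κ
    ι_add := fun x y => congrArg Subtype.val (hadd x y)
    ι_inj := Subtype.val_injective.comp hιb.1
    ι_mem := fun x => (ι x).2.1
    ι_range := fun z hz hz2 => by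
      obtain ⟨x, hx⟩ := hιb.2 ⟨z, hz, hz2⟩
      exact ⟨x, congrArg Subtype.val hx⟩
    ι_comm := fun x y hy => hZc _ (ι x).2 y hy
    κ_inj := Subtype.val_injective.comp hκb.1
    κ_mem := fun u => hCD _ (κ u).2
    κ_inv := fun u => by
      have := ((hCK _).1 (κ u).2).2
      rwa [H38.t_inv hS] at this
    κ_conj := fun u x => congrArg Subtype.val (hact u x)
    κ_free := fun u hu => hfree _ (κ u).2 fun e => hu (hκb.1 (by
      rw [map_one]; exact Subtype.ext e))
    κ_normal := fun d hd u => by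
      obtain ⟨u', hu'⟩ := hκb.2 ⟨_, hCn d hd _ (κ u).2⟩
      exact ⟨u', (congrArg Subtype.val hu').symm⟩
    base := ?_ }⟩⟩
  · rw [hF]
    exact le_trans (by norm_num) (Nat.pow_le_pow_right two_pos hn2)
  · rw [hF, ← hn, hZI]
  · show t * (ι 1 : G) * t = (ι 1 : G) * t * (ι 1 : G)
    rw [hι1]
    show t * s * t = s * t * s
    rw [he, inv_eq_of_mul_eq_one_right hs.2.2]

end Cfsg.Agent.H36.RankOneU3
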