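import Cfsg.Agent.H36.RankOneU3.Laws
import Mathlib.Algebra.QuadraticAlgebra.Basic
import Mathlib.FieldTheory.Finite.Basic

/-!
# The quadratic extension coordinatising a system

`Frame` is an additive bijection from `E` to `QuadraticAlgebra F n b = F[T] / (T ^ 2 - b T - n)` in which every row is
`φ_x a = X / (β x + a)` with `β x + conj (β x) = N X`.
-/

set_option autoImplicit false
set_option linter.unusedSectionVars false

namespace Cfsg.Agent.H36.RankOneU3

open QuadraticAlgebra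

variable {F : Type*} [Field F] [Fintype F] [CharP F 2] {n b : F}

omit [Fintype F] in
theorem k_two : (2 : QuadraticAlgebra F n b) = 0 := by
  rw [← map_ofNat (algebraMap F (QuadraticAlgebra F n b)) 2, CharTwo.two_eq_zero, map_zero]

omit [Fintype F] in
theorem star_add_self (z : QuadraticAlgebra F n b) : z + star z = algebraMap F (QuadraticAlgebra F n b) (b * z.im) := by
  rw [← algebraMap_trace_eq_add_star, trace_def, CharTwo.two_eq_zero, zero_mul, zero_add]

variable [hfact : Fact (∀ r, r ^ 2 ≠ n + b * r)]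

include hfact in
theorem b_ne : b ≠ 0 := by
  intro h
  obtain ⟨r, hr⟩ := FiniteField.isSquare_of_char_two (ringChar.eq F 2) n
  exact hfact.out r (by rw [h, zero_mul, add_zero, hr, sq])

/-- An element of the base is fixed by conjugation, and conversely. -/
theorem exists_of_star_eq {z : QuadraticAlgebra F n b} (h : star z = z) : ∃ r, z = algebraMap F (QuadraticAlgebra F n b) r := by
  refine ⟨z.re, QuadraticAlgebra.ext rfl ?_⟩
  have h1 := congrArg QuadraticAlgebra.re h
  rw [re_star] at h1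
  have h2 : b * z.im = 0 := by linear_combination h1
  rw [algebraMap_im]
  exact (mul_eq_zero.1 h2).resolve_left (b_ne (n := n))

omit [Fintype F] [CharP F 2] hfact in
theorem star_algebraMap (r : F) : star (algebraMap F (QuadraticAlgebra F n b) r) = algebraMap F (QuadraticAlgebra F n b) r := by
  ext <;> simp [algebraMap_re, algebraMap_im]

variable {Q : Type*} [Group Q] {E : Type*} [AddCommGroup E] {S : Sys Q F E}

/-- Coordinates of a system in the quadratic algebra. -/
structure Frame (S : Sys Q F E) (n b : F) [Fact (∀ r, r ^ 2 ≠ n + b * r)] where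
  /-- the coordinate on the quotient -/
  ψ : E →+ QuadraticAlgebra F n b
  bij : Function.Bijective ψ
  scalar : ∀ a v, ψ (S.μ a v) = algebraMap F (QuadraticAlgebra F n b) a * ψ v
  row : ∀ x, S.cls x ≠ 0 → ∃ β : QuadraticAlgebra F n b, (∀ a : F,
    (β + algebraMap F (QuadraticAlgebra F n b) a) * ψ (S.phi x a) = ψ (S.cls x)) ∧
      S.sq x = norm (ψ (S.cls x))

/-- A row with parameter `β`. -/
def IsRow (S : Sys Q F E) (ψ : E →+ QuadraticAlgebra F n b) (x : Q) (β : QuadraticAlgebra F n b) :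
    Prop :=
  ∀ a : F, (β + algebraMap F (QuadraticAlgebra F n b) a) * ψ (S.phi x a) = ψ (S.cls x)

variable [Finite E] {ψ : E →+ QuadraticAlgebra F n b} (L : S.Law) (hψ : Function.Injective ψ)
  (hsc : ∀ a v, ψ (S.μ a v) = algebraMap F (QuadraticAlgebra F n b) a * ψ v)
include L hψ

omit [Finite E] in
theorem psi_ne {v : E} (hv : v ≠ 0) : ψ v ≠ 0 := fun e => hv (hψ (e.trans (map_zero ψ).symm))

omit [Finite E] in
theorem IsRow.ne_base {x : Q} {β : QuadraticAlgebra F n b} (hx : S.cls x ≠ 0) (h : IsRow S ψ x β) (a : F) :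
    β + algebraMap F (QuadraticAlgebra F n b) a ≠ 0 := fun e => psi_ne L hψ hx (by rw [← h a, e, zero_mul])

omit [Finite E] in
theorem IsRow.psi_phi {x : Q} {β : QuadraticAlgebra F n b} (hx : S.cls x ≠ 0) (h : IsRow S ψ x β) (a : F) :
    ψ (S.phi x a) = ψ (S.cls x) / (β + algebraMap F (QuadraticAlgebra F n b) a) :=
  (eq_div_iff (h.ne_base L hψ hx a)).2 (by rw [mul_comm]; exact h a)

include hsc

/-- The parameter of a row is a root of `T ^ 2 + s T + N` with `s = sq x`. -/
theorem IsRow.trace {x : Q} {β : QuadraticAlgebra F n b} (hx : S.cls x ≠ 0) (h : IsRow S ψ x β) :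
    β + star β = algebraMap F (QuadraticAlgebra F n b) (S.sq x) := by
  obtain ⟨γ, -, hr⟩ := (L.eqn hx).rel 0 1 one_ne_zero
  have h1 := congrArg ψ hr
  rw [map_add, hsc, hsc, map_one, one_mul, zero_add, h.psi_phi L hψ hx, h.psi_phi L hψ hx,
    map_zero, add_zero] at h1
  have hb0 : β ≠ 0 := by simpa using h.ne_base L hψ hx 0
  have hb1 := h.ne_base L hψ hx (1 + S.sq x + γ)
  have hX := psi_ne L hψ hx
  field_simp at h1
  simp only [map_add, map_one] at h1
  have h2 := k_two (n := n) (b := b)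
  have key : β ^ 2 + algebraMap F (QuadraticAlgebra F n b) (S.sq x) * β = algebraMap F (QuadraticAlgebra F n b) (1 + S.sq x + γ) := by
    simp only [map_add, map_one]
    linear_combination -h1 + (-(β * algebraMap F (QuadraticAlgebra F n b) γ)) * h2
  have key' : star β ^ 2 + algebraMap F (QuadraticAlgebra F n b) (S.sq x) * star β = algebraMap F (QuadraticAlgebra F n b) (1 + S.sq x + γ) := by
    have h3 := congrArg star key
    rwa [star_add, star_pow, star_mul', star_algebraMap, star_algebraMap] at h3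
  have h3 : (β + star β) * (β + star β + algebraMap F (QuadraticAlgebra F n b) (S.sq x)) = 0 := by
    linear_combination key + key' + (β * star β + algebraMap F (QuadraticAlgebra F n b) (1 + S.sq x + γ)) * h2
  rcases mul_eq_zero.1 h3 with h4 | h4
  · obtain ⟨r, hr'⟩ := exists_of_star_eq (z := β) (by linear_combination h4 - β * h2)
    refine absurd ?_ (h.ne_base L hψ hx r)
    rw [hr']
    linear_combination (algebraMap F (QuadraticAlgebra F n b) r) * h2
  · linear_combination h4 - algebraMap F (QuadraticAlgebra F n b) (S.sq x) * h2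

omit [Finite E] hsc in
theorem IsRow.translate {x : Q} {β : QuadraticAlgebra F n b} (h : IsRow S ψ x β) (d : F) :
    IsRow S ψ (x * S.z d) (β + algebraMap F (QuadraticAlgebra F n b) d) := fun a => by
  rw [L.cls_mul_z, L.phi_mul_z, ← h (d + a), map_add, add_assoc]

theorem IsRow.point {x : Q} {β : QuadraticAlgebra F n b} (hx : S.cls x ≠ 0) (h : IsRow S ψ x β) :
    IsRow S ψ (S.f x) β⁻¹ ∧ ψ (S.cls (S.f x)) = ψ (S.cls x) / β := by
  have hb0 : β ≠ 0 := by simpa using h.ne_base L hψ hx 0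
  have hX : ψ (S.cls (S.f x)) = ψ (S.cls x) / β := by
    rw [← L.phi_zero, h.psi_phi L hψ hx, map_zero, add_zero]
  refine ⟨fun a => ?_, hX⟩
  rw [hX]
  by_cases ha : a = 0
  · subst ha
    rw [map_zero, add_zero, L.phi_f_zero hx]
    field_simp
  · have h1 := L.phi_f hx (inv_ne_zero ha)
    rw [inv_inv] at h1
    rw [h1, hsc, h.psi_phi L hψ hx, map_inv₀]
    have hne := h.ne_base L hψ hx a⁻¹
    rw [map_inv₀] at hne
    have ha' : algebraMap F (QuadraticAlgebra F n b) a ≠ 0 := by simpa using ha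
    generalize algebraMap F (QuadraticAlgebra F n b) a = A at hne ha' ⊢
    have hne' : 1 + β * A ≠ 0 := fun e => hne (by
      field_simp
      linear_combination e)
    field_simp
    ring_nf
    field_simp
    ring

omit [Finite E] in
theorem IsRow.scale {x x' : Q} {β : QuadraticAlgebra F n b} {ρ : F} (hρ : ρ ≠ 0) (h : IsRow S ψ x β)
    (hc : S.cls x' = S.μ ρ (S.cls x)) (hp : ∀ a, S.phi x' (ρ * ρ * a) = S.μ ρ⁻¹ (S.phi x a)) :
    IsRow S ψ x' (algebraMap F (QuadraticAlgebra F n b) (ρ * ρ) * β) := fun a => by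
  have ha : a = ρ * ρ * (a / (ρ * ρ)) := by field_simp
  have hρ' : algebraMap F (QuadraticAlgebra F n b) ρ ≠ 0 := by simpa using hρ
  rw [ha, hp, hc, hsc, hsc, ← h (a / (ρ * ρ)), map_inv₀]
  simp only [map_mul]
  field_simp

omit hψ hsc in
/-- Every system has a frame. -/
theorem exists_frame : ∃ (n b : F) (_ : Fact (∀ r, r ^ 2 ≠ n + b * r)), Nonempty (Frame S n b) := by
  classical
  let _ := L.module
  have hnt : Nontrivial E := by
    rw [← Finite.one_lt_card_iff_nontrivial, L.op.card]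
    exact Nat.one_lt_pow two_ne_zero Fintype.one_lt_card
  obtain ⟨X₀, hX₀⟩ := exists_ne (0 : E)
  obtain ⟨x₀, rfl⟩ := L.cls_surj X₀
  have he : REqn (S.cls x₀) (S.phi x₀) (S.sq x₀) :=
    ⟨(L.eqn hX₀).ne, (L.eqn hX₀).s_ne, (L.eqn hX₀).rel⟩
  obtain ⟨J, N, hJ, hJJ, hroot, hmeet⟩ := exists_rowMap L.op.card hX₀ he
  have hF : Fact (∀ r : F, r ^ 2 ≠ N + S.sq x₀ * r) :=
    ⟨fun r e => hroot r (by linear_combination e)⟩
  refine ⟨N, S.sq x₀, hF, ?_⟩
  let Lh : QuadraticAlgebra F N (S.sq x₀) →ₐ[F] Module.End F E :=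
    QuadraticAlgebra.lift ⟨J, LinearMap.ext fun v => by
      show J (J v) = N • v + S.sq x₀ • J v
      rw [hJJ, add_comm]⟩
  have hLh : Lh ω = J := by simp [Lh, QuadraticAlgebra.lift]
  obtain ⟨c, hc⟩ : ∃ c : F, c * c = S.sq x₀ := by
    obtain ⟨r, hr⟩ := FiniteField.isSquare_of_char_two (ringChar.eq F 2) (S.sq x₀)
    exact ⟨r, hr.symm⟩
  have hc0 : c ≠ 0 := fun e => he.s_ne (by rw [← hc, e, mul_zero])
  have hc0' : algebraMap F (QuadraticAlgebra F N (S.sq x₀)) c ≠ 0 := by simpa using hc0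
  let ev : QuadraticAlgebra F N (S.sq x₀) →ₗ[F] E :=
    (LinearMap.applyₗ (S.cls x₀)).comp Lh.toLinearMap
  have hev : ∀ u, ev u = Lh u (S.cls x₀) := fun u => rfl
  have hinj : Function.Injective ev := by
    rw [injective_iff_map_eq_zero]
    intro u hu
    by_contra h0
    have h1 : Lh (u⁻¹ * u) (S.cls x₀) = 0 := by
      rw [map_mul]
      show Lh u⁻¹ (Lh u (S.cls x₀)) = 0
      rw [← hev, hu, map_zero]
    rw [inv_mul_cancel₀ h0, map_one] at h1
    exact hX₀ h1
  have hbij : Function.Bijective ev := (Nat.bijective_iff_injective_and_card ev).2 ⟨hinj, by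
    rw [L.op.card, Nat.card_congr (QuadraticAlgebra.equivProd _ _), Nat.card_prod,
      Nat.card_eq_fintype_card, sq]⟩
  let e := LinearEquiv.ofBijective ev hbij
  let ψ : E →+ QuadraticAlgebra F N (S.sq x₀) :=
    (AddMonoidHom.mulLeft (algebraMap F _ c)).comp e.symm.toAddEquiv.toAddMonoidHom
  have hψ : ∀ v, ψ v = algebraMap F _ c * e.symm v := fun v => rfl
  have hψb : Function.Bijective ψ := by
    have : (ψ : E → _) = (fun u => algebraMap F _ c * u) ∘ e.symm := funext hψ
    rw [this]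
    exact (mulLeft_bijective₀ _ hc0').comp e.symm.bijective
  have hsc : ∀ a v, ψ (S.μ a v) = algebraMap F _ a * ψ v := fun a v => by
    rw [hψ, hψ, show S.μ a v = a • v from rfl, map_smul, Algebra.smul_def]
    ring
  have hrow₀ : IsRow S ψ x₀ (ω : QuadraticAlgebra F N (S.sq x₀)) := fun a => by
    rw [hψ, hψ, mul_left_comm]
    congr 1
    refine e.injective ?_
    rw [LinearEquiv.apply_symm_apply]
    show Lh ((ω + algebraMap F _ a) * e.symm (S.phi x₀ a)) (S.cls x₀) = _
    rw [map_mul]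
    show Lh (ω + algebraMap F _ a) (e (e.symm (S.phi x₀ a))) = _
    rw [LinearEquiv.apply_symm_apply, map_add, hLh, AlgHom.commutes, LinearMap.add_apply,
      Module.algebraMap_end_apply]
    exact hJ a
  have hn₀ : S.sq x₀ = norm (ψ (S.cls x₀)) := by
    have h1 : e.symm (S.cls x₀) = 1 := e.symm_apply_eq.2 (by
      show _ = Lh 1 (S.cls x₀)
      rw [map_one]; rfl)
    rw [hψ, h1, mul_one, norm_algebraMap, sq, hc]
  -- transport to every element
  let Good : Q → Prop := fun x => ∃ β, IsRow S ψ x β ∧ S.sq x = norm (ψ (S.cls x))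
  have htr : ∀ x d, Good x → Good (x * S.z d) := fun x d ⟨β, hβ, hn⟩ =>
    ⟨_, hβ.translate L hψb.1 d, by rw [L.sq_mul_z, L.cls_mul_z, hn]⟩
  have hf : ∀ x, S.cls x ≠ 0 → Good x → Good (S.f x) := fun x hx ⟨β, hβ, hn⟩ => by
    obtain ⟨h1, h2⟩ := hβ.point L hψb.1 hsc hx
    refine ⟨_, h1, (algebraMap F (QuadraticAlgebra F N (S.sq x₀))).injective ?_⟩
    have hb0 : β ≠ 0 := by simpa using hβ.ne_base L hψb.1 hx 0
    have hbs : star β ≠ 0 := star_ne_zero.2 hb0
    rw [← h1.trace L hψb.1 hsc (L.cls_f_ne hx), h2, algebraMap_norm_eq_mul_star, star_div₀,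
      star_inv₀, div_mul_div_comm, ← algebraMap_norm_eq_mul_star, ← hn,
      ← hβ.trace L hψb.1 hsc hx]
    field_simp
    ring
  have hscale : ∀ x ρ, ρ ≠ 0 → S.cls x ≠ 0 → Good x →
      ∃ x', S.cls x' = S.μ ρ (S.cls x) ∧ Good x' := fun x ρ hρ hx ⟨β, hβ, hn⟩ => by
    obtain ⟨x', hc', hp⟩ := L.scale ρ hρ x hx
    have hx' : S.cls x' ≠ 0 := by
      rw [hc']
      exact fun z => hx (L.op.inj hρ (z.trans (map_zero _).symm))
    have h1 := hβ.scale L hψb.1 hsc hρ hc' hp
    refine ⟨x', hc', _, h1, (algebraMap F (QuadraticAlgebra F N (S.sq x₀))).injective ?_⟩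
    rw [← h1.trace L hψb.1 hsc hx', hc', hsc, map_mul norm, norm_algebraMap, ← hn,
      map_mul _ (ρ ^ 2) (S.sq x), ← hβ.trace L hψb.1 hsc hx, star_mul', star_algebraMap, map_pow,
      map_mul]
    ring
  refine ⟨⟨ψ, hψb, hsc, fun y hy => ?_⟩⟩
  suffices h : ∃ x, S.cls x = S.cls y ∧ Good x by
    obtain ⟨x, hxy, hg⟩ := h
    obtain ⟨d, rfl⟩ := L.cls_eq_iff hxy
    exact htr x d hg
  by_cases hl : ∃ a : F, a • S.cls x₀ = S.cls y
  · obtain ⟨a, ha⟩ := hl
    have ha0 : a ≠ 0 := fun e => hy (by rw [← ha, e, zero_smul])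
    obtain ⟨x', hx', hg⟩ := hscale x₀ a ha0 hX₀ ⟨_, hrow₀, hn₀⟩
    exact ⟨x', hx'.trans ha, hg⟩
  · push Not at hl
    obtain ⟨ε, a, hε⟩ := hmeet _ hl
    have ha0 : a ≠ 0 := fun e => he.ne ε (by rw [hε, e, zero_smul])
    have hx : S.cls (x₀ * S.z ε) ≠ 0 := by rwa [L.cls_mul_z]
    obtain ⟨x', hx', hg⟩ := hscale _ a⁻¹ (inv_ne_zero ha0) (L.cls_f_ne hx)
      (hf _ hx (htr _ ε ⟨_, hrow₀, hn₀⟩))
    refine ⟨x', hx'.trans ?_, hg⟩
    show a⁻¹ • S.phi x₀ ε = S.cls y
    rw [hε, ← mul_smul, inv_mul_cancel₀ ha0, one_smul]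

end Cfsg.Agent.H36.RankOneU3
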