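import Mathlib.Algebra.CharP.Two
import Mathlib.FieldTheory.Finite.Basic

/-!
# A functional equation in characteristic two

If `ν y * (Φ (w + y) + Φ w + s) = P w + P (w + y)` with `ν` injective then `Φ` and `P` are affine; if
moreover `ν` is equivariant for scalar operators summing to zero and `s ≠ 0`, then `ν` is additive.
-/

set_option autoImplicit false

namespace Cfsg.Agent.H36.RankOneU3

variable {F W : Type*} [Field F] [CharP F 2] [AddCommGroup W] {ν Φ P : W → F} {s : F}

/-- The functional equation makes both functions affine. -/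
theorem affine_of_eqn (hW : ∀ v : W, v + v = 0) (hinj : Function.Injective ν)
    (h : ∀ w y, ν y * (Φ (w + y) + Φ w + s) = P w + P (w + y)) (d v : W) :
    Φ (d + v) = Φ d + Φ v + Φ 0 ∧ P (d + v) = P d + P v + P 0 := by
  by_cases hd : d = 0
  · subst hd
    rw [zero_add]
    constructor <;> rw [add_right_comm, CharTwo.add_self_eq_zero, zero_add]
  have e1 := h 0 v
  have e2 := h d v
  have e3 := h d (d + v)
  have e4 := h 0 (d + v)
  rw [zero_add] at e1 e4
  rw [← add_assoc d d v, hW, zero_add] at e3
  have h2 := CharTwo.two_eq_zero (R := F)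
  have hne : ν v + ν (d + v) ≠ 0 := fun e => hd (by
    simpa using hinj (CharTwo.add_eq_zero.1 e).symm)
  have key : Φ (d + v) + Φ d + Φ v + Φ 0 = 0 := by
    have : (ν v + ν (d + v)) * (Φ (d + v) + Φ d + Φ v + Φ 0) = 0 := by
      linear_combination e1 + e2 + e3 + e4 + (P 0 + P v + P d + P (d + v) -
        ν v * s - ν (d + v) * s) * h2
    exact (mul_eq_zero.1 this).resolve_left hne
  have key2 : P (d + v) + P d + P v + P 0 = 0 := by
    linear_combination ν v * key - e1 - e2 + ν v * s * h2
  exact ⟨CharTwo.add_eq_zero.1 (by linear_combination key),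
    CharTwo.add_eq_zero.1 (by linear_combination key2)⟩

/-- An equivariant injective function satisfying the equation is additive. -/
theorem add_of_eqn [Fintype F] [DecidableEq F] (hW : ∀ v : W, v + v = 0) (hinj : Function.Injective ν)
    (h0 : ν 0 = 0) (μ : F → W →+ W) (hν : ∀ b y, ν (μ b y) = b * ν y)
    (hsum : ∀ y, ∑ b ∈ (Finset.univ : Finset F).erase 0, μ b y = 0) (hs : s ≠ 0)
    (h : ∀ w y, ν y * (Φ (w + y) + Φ w + s) = P w + P (w + y)) (y z : W) :
    ν (y + z) = ν y + ν z := by
  have h2 := CharTwo.two_eq_zero (R := F)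
  let L : W →+ F := AddMonoidHom.mk' (fun w => Φ w + Φ 0) fun u v => by
    rw [(affine_of_eqn hW hinj h u v).1]
    ring
  have hT : ∀ w, ν w * (L w + s) = P w + P 0 := fun w => by
    have := h 0 w
    rw [zero_add] at this
    exact this.trans (add_comm _ _)
  let T : W →+ F := AddMonoidHom.mk' (fun w => ν w * (L w + s)) fun u v => by
    rw [hT, hT, hT, (affine_of_eqn hW hinj h u v).2]
    ring
  have hq : ((Finset.univ : Finset F).erase 0).card • s = s := by
    have hc : ((Fintype.card F : ℕ) : F) = 0 := FiniteField.cast_card_eq_zero F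
    rw [Finset.card_erase_of_mem (Finset.mem_univ _), Finset.card_univ, nsmul_eq_mul,
      Nat.cast_sub Fintype.card_pos, hc]
    linear_combination -s * h2
  have hS : ∀ w, ∑ b ∈ (Finset.univ : Finset F).erase 0, b⁻¹ * T (μ b w) = ν w * s := by
    intro w
    have : ∀ b ∈ (Finset.univ : Finset F).erase 0, b⁻¹ * T (μ b w) = ν w * (L (μ b w) + s) := by
      intro b hb
      show b⁻¹ * (ν (μ b w) * (L (μ b w) + s)) = _
      rw [hν, ← mul_assoc, ← mul_assoc, inv_mul_cancel₀ (Finset.ne_of_mem_erase hb), one_mul]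
    rw [Finset.sum_congr rfl this, ← Finset.mul_sum, Finset.sum_add_distrib, ← map_sum, hsum,
      map_zero, Finset.sum_const, hq, zero_add]
  apply mul_right_cancel₀ hs
  rw [add_mul, ← hS, ← hS, ← hS, ← Finset.sum_add_distrib]
  simp only [map_add, mul_add]

end Cfsg.Agent.H36.RankOneU3
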