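import Cfsg.Agent.H36.RankOneU3.Rows
import Mathlib.Algebra.Module.MinimalAxioms

/-!
# The axioms of a unitary rank-one system

`Sys` is the data left on the regular subgroup `Q` by the involution `t`: the coordinate `z` on the
centre, the class map onto `E = Q / Z`, the squaring map, the scalar operators, the point map `f`, and
the operators `k x` of the two-point stabiliser. The consequences (I), (II) and the row equation follow.
-/

set_option autoImplicit false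

namespace Cfsg.Agent.H36.RankOneU3

/-- The data of a system. -/
structure Sys (Q : Type*) [Group Q] (F : Type*) [Field F] (E : Type*) [AddCommGroup E] where
  /-- coordinate on the centre -/
  z : F → Q
  /-- the class map -/
  cls : Q → E
  /-- the squaring map -/
  sq : Q → F
  /-- the scalar operators -/
  μ : F → E →+ E
  /-- the point map of `t` -/
  f : Q → Q
  /-- the operator of the component in the two-point stabiliser -/
  k : Q → E →+ E

namespace Sys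

variable {Q : Type*} [Group Q] {F : Type*} [Field F] [Fintype F] [CharP F 2] {E : Type*}
  [AddCommGroup E] [Finite E] (S : Sys Q F E)

/-- The row through `x`. -/
def phi (x : Q) (a : F) : E := S.cls (S.f (x * S.z a))

/-- The axioms. -/
structure Law : Prop where
  op : IsOp S.μ
  z_add : ∀ a b, S.z (a + b) = S.z a * S.z b
  z_inj : Function.Injective S.z
  z_comm : ∀ a x, S.z a * x = x * S.z a
  cls_mul : ∀ x y, S.cls (x * y) = S.cls x + S.cls y
  cls_surj : Function.Surjective S.cls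
  cls_eq_zero : ∀ x, S.cls x = 0 ↔ ∃ a, x = S.z a
  mul_self : ∀ x, x * x = S.z (S.sq x)
  sq_eq_zero : ∀ x, S.sq x = 0 → S.cls x = 0
  f_ne : ∀ x, x ≠ 1 → S.f x ≠ 1
  f_f : ∀ x, x ≠ 1 → S.f (S.f x) = x
  f_z : ∀ a, a ≠ 0 → S.f (S.z a) = S.z a⁻¹
  k_z : ∀ a, a ≠ 0 → ∀ v, S.k (S.z a) v = S.μ a⁻¹ v
  prod : ∀ x y, x ≠ 1 → y ≠ 1 → x * y ≠ 1 → (S.f x⁻¹)⁻¹ * S.f y ≠ 1 ∧
    S.cls (S.f (x * y)) = S.cls (S.f x) + S.k x (S.cls (S.f ((S.f x⁻¹)⁻¹ * S.f y)))
  twist : ∀ x, S.cls x ≠ 0 → ∀ a, a ≠ 0 → ∃ c, c ≠ 0 ∧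
    S.k (S.f x) (S.cls (S.f ((S.f (S.f x)⁻¹)⁻¹ * S.z a))) = S.cls (S.f (S.f x⁻¹ * S.z c))
  scale : ∀ ρ, ρ ≠ 0 → ∀ x, S.cls x ≠ 0 → ∃ x', S.cls x' = S.μ ρ (S.cls x) ∧
    ∀ a, S.phi x' (ρ * ρ * a) = S.μ ρ⁻¹ (S.phi x a)
  semi : ∀ x, x ≠ 1 → ∃ (σ : F →+* F) (c : F), (∀ a v, S.k x (S.μ a v) = S.μ (σ a) (S.k x v)) ∧
    (∀ y y', S.cls y' = S.k x (S.cls y) → S.sq y' = c * σ (S.sq y)) ∧
    ((∀ b, σ (σ b) = b) → ∀ b, σ b = b)

namespace Law

variable {S} (L : S.Law)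
include L

omit [CharP F 2] [Finite E] in
theorem z_zero : S.z 0 = 1 := by
  have h := L.z_add 0 0
  rwa [add_zero, left_eq_mul] at h

omit [Finite E] in
theorem z_inv (a : F) : (S.z a)⁻¹ = S.z a := by
  rw [inv_eq_iff_mul_eq_one, ← L.z_add, CharTwo.add_self_eq_zero, L.z_zero]

omit [CharP F 2] [Finite E] in
theorem cls_one : S.cls 1 = 0 := (L.cls_eq_zero 1).2 ⟨0, L.z_zero.symm⟩

omit [CharP F 2] [Finite E] in
theorem cls_z (a : F) : S.cls (S.z a) = 0 := (L.cls_eq_zero _).2 ⟨a, rfl⟩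

omit [CharP F 2] [Finite E] in
theorem cls_mul_z (x : Q) (a : F) : S.cls (x * S.z a) = S.cls x := by
  rw [L.cls_mul, L.cls_z, add_zero]

omit [CharP F 2] [Finite E] in
theorem cls_inv (x : Q) : S.cls x⁻¹ = S.cls x := by
  have h := L.cls_mul x x⁻¹
  rw [mul_inv_cancel, L.cls_one] at h
  calc S.cls x⁻¹ = S.cls x + S.cls x + S.cls x⁻¹ := by rw [L.op.two, zero_add]
    _ = S.cls x := by rw [add_assoc, ← h, add_zero]

omit [CharP F 2] [Finite E] in
theorem ne_one {x : Q} (hx : S.cls x ≠ 0) : x ≠ 1 := fun e => hx (by rw [e, L.cls_one])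

omit [Finite E] in
theorem inv_eq (x : Q) : x⁻¹ = x * S.z (S.sq x) := by
  refine inv_eq_of_mul_eq_one_right ?_
  rw [← mul_assoc, L.mul_self, ← L.z_add, CharTwo.add_self_eq_zero, L.z_zero]

omit [CharP F 2] [Finite E] in
theorem cls_eq_iff {x y : Q} (h : S.cls x = S.cls y) : ∃ a, y = x * S.z a := by
  obtain ⟨a, ha⟩ := (L.cls_eq_zero (x⁻¹ * y)).1 (by rw [L.cls_mul, L.cls_inv, h, L.op.two])
  exact ⟨a, by rw [← ha, mul_inv_cancel_left]⟩

omit [Finite E] in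
theorem sq_mul_z (x : Q) (a : F) : S.sq (x * S.z a) = S.sq x := by
  refine L.z_inj ?_
  rw [← L.mul_self, ← L.mul_self]
  calc x * S.z a * (x * S.z a) = x * (S.z a * x) * S.z a := by group
    _ = x * x * (S.z a * S.z a) := by rw [L.z_comm a x]; group
    _ = x * x := by rw [← L.z_add, CharTwo.add_self_eq_zero, L.z_zero, mul_one]

omit [CharP F 2] [Finite E] in
theorem cls_f_ne {x : Q} (hx : S.cls x ≠ 0) : S.cls (S.f x) ≠ 0 := by
  intro h
  obtain ⟨a, ha⟩ := (L.cls_eq_zero _).1 h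
  have ha0 : a ≠ 0 := fun e => L.f_ne x (L.ne_one hx) (by rw [ha, e, L.z_zero])
  have := L.f_f x (L.ne_one hx)
  rw [ha, L.f_z a ha0] at this
  exact hx (by rw [← this, L.cls_z])

omit [CharP F 2] [Finite E] in
theorem phi_ne {x : Q} (hx : S.cls x ≠ 0) (a : F) : S.phi x a ≠ 0 :=
  L.cls_f_ne (by rwa [L.cls_mul_z])

omit [CharP F 2] [Finite E] in
theorem phi_zero (x : Q) : S.phi x 0 = S.cls (S.f x) := by rw [phi, L.z_zero, mul_one]

omit [CharP F 2] [Finite E] in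
theorem phi_f_zero {x : Q} (hx : S.cls x ≠ 0) : S.phi (S.f x) 0 = S.cls x := by
  rw [L.phi_zero, L.f_f x (L.ne_one hx)]

omit [CharP F 2] [Finite E] in
theorem phi_mul_z (x : Q) (d a : F) : S.phi (x * S.z d) a = S.phi x (d + a) := by
  rw [phi, phi, mul_assoc, L.z_add]

omit [Finite E] in
/-- Equation (I). -/
theorem phi_f {x : Q} (hx : S.cls x ≠ 0) {a : F} (ha : a ≠ 0) :
    S.phi (S.f x) a⁻¹ = S.μ a (S.phi x a) := by
  have h1 : S.z a ≠ 1 := fun e => ha (L.z_inj (e.trans L.z_zero.symm))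
  have h2 : S.z a * x ≠ 1 := fun e => hx (by rw [← L.cls_mul_z x a, ← L.z_comm, e, L.cls_one])
  obtain ⟨-, h⟩ := L.prod (S.z a) x h1 (L.ne_one hx) h2
  rw [L.z_inv, L.f_z a ha, L.cls_z, zero_add, L.z_inv, L.z_comm, L.z_comm, L.k_z a ha] at h
  change S.phi x a = S.μ a⁻¹ (S.phi (S.f x) a⁻¹) at h
  rw [h, ← L.op.mul, mul_inv_cancel₀ ha, L.op.one]

omit [CharP F 2] [Finite E] in
/-- Equation (II). -/
theorem phi_eq {x : Q} (hx : S.cls x ≠ 0) {a : F} (ha : a ≠ 0) :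
    S.phi x a = S.cls (S.f x) + S.k x (S.phi (S.f x⁻¹)⁻¹ a⁻¹) := by
  have h1 : S.z a ≠ 1 := fun e => ha (L.z_inj (e.trans L.z_zero.symm))
  have h2 : x * S.z a ≠ 1 := fun e => hx (by rw [← L.cls_mul_z x a, e, L.cls_one])
  obtain ⟨-, h⟩ := L.prod x (S.z a) (L.ne_one hx) h1 h2
  rw [L.f_z a ha] at h
  exact h

omit [Finite E] in
/-- Equation (A). -/
theorem eqn {x : Q} (hx : S.cls x ≠ 0) : Eqn S.μ (S.cls x) (S.phi x) (S.sq x) where
  ne := L.phi_ne hx
  s_ne e := hx (L.sq_eq_zero x e)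
  rel ε α hα := by
    set y := x * S.z (ε + α) with hy
    have hy0 : S.cls y ≠ 0 := by rwa [hy, L.cls_mul_z]
    have hfy := L.cls_f_ne hy0
    obtain ⟨c, hc, hk⟩ := L.twist y hy0 α hα
    refine ⟨c⁻¹, inv_ne_zero hc, ?_⟩
    have h2 := L.phi_eq hfy (inv_ne_zero hα)
    rw [inv_inv, L.f_f y (L.ne_one hy0)] at h2
    change _ = S.cls y + S.k (S.f y) (S.cls (S.f _)) at h2
    rw [hk] at h2
    have hyi : S.cls y⁻¹ ≠ 0 := by rwa [L.cls_inv]
    have h3 := L.phi_f hyi (inv_ne_zero hc)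
    rw [inv_inv] at h3
    change S.cls (S.f (S.f y⁻¹ * S.z c)) = _ at h3
    rw [h3, L.phi_f hy0 hα, L.inv_eq y, hy, L.sq_mul_z, L.cls_mul_z, L.phi_mul_z, L.phi_mul_z,
      L.phi_mul_z, add_assoc ε α α, CharTwo.add_self_eq_zero, add_zero] at h2
    rw [h2]
    congr 3
    ring

/-- The scalar operators are additive. -/
theorem mu_add (a b : F) (v : E) : S.μ (a + b) v = S.μ a v + S.μ b v := by
  refine op_add L.op (fun X hX => ?_) a b v
  obtain ⟨x, rfl⟩ := L.cls_surj X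
  exact ⟨_, _, L.eqn hX⟩

/-- The vector space structure. -/
noncomputable abbrev module : Module F E :=
  letI : SMul F E := ⟨fun a v => S.μ a v⟩
  Module.ofMinimalAxioms (fun a u v => map_add (S.μ a) u v) (fun a b v => L.mu_add a b v)
    (fun a b v => L.op.mul a b v) L.op.one

end Law

end Sys

end Cfsg.Agent.H36.RankOneU3
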