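import Cfsg.Agent.H36.RankOneU3.Coord

/-!
# The parameter of a row, and the operators `k x` are multiplications

In a frame every `x` gets the pair `(bb x, beta x)`; the point map sends `(X, β)` to `(X/β, 1/β)`
and `k x` is multiplication by `conj β / β ^ 2`.
-/

set_option autoImplicit false
set_option linter.unusedSectionVars false

namespace Cfsg.Agent.H36.RankOneU3

open QuadraticAlgebra

variable {F : Type*} [Field F] [Fintype F] [CharP F 2] {n b : F}
  [hfact : Fact (∀ r, r ^ 2 ≠ n + b * r)]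
  {Q : Type*} [Group Q] {E : Type*} [AddCommGroup E] [Finite E] {S : Sys Q F E}

namespace Frame

/-- The class of `x` in coordinates. -/
def bb (P : Frame S n b) (x : Q) : QuadraticAlgebra F n b := P.ψ (S.cls x)

open Classical in
/-- The parameter of `x`. -/
noncomputable def beta (P : Frame S n b) (x : Q) : QuadraticAlgebra F n b :=
  if S.cls x = 0 then algebraMap F (QuadraticAlgebra F n b) (Function.invFun S.z x)
  else P.bb x / P.bb (S.f x)

variable (P : Frame S n b) (L : S.Law)
include L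

theorem bb_mul (x y : Q) : P.bb (x * y) = P.bb x + P.bb y := by
  rw [bb, L.cls_mul, map_add]; rfl

theorem bb_inv (x : Q) : P.bb x⁻¹ = P.bb x := by rw [bb, L.cls_inv]; rfl

theorem bb_mul_z (x : Q) (a : F) : P.bb (x * S.z a) = P.bb x := by rw [bb, L.cls_mul_z]; rfl

theorem bb_z (a : F) : P.bb (S.z a) = 0 := by rw [bb, L.cls_z, map_zero]

theorem bb_eq_zero {x : Q} : P.bb x = 0 ↔ S.cls x = 0 :=
  ⟨fun e => P.bij.1 (e.trans (map_zero _).symm), fun e => by rw [bb, e, map_zero]⟩

theorem sq_z (a : F) : S.sq (S.z a) = 0 := L.z_inj (by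
  rw [← L.mul_self, ← L.z_add, CharTwo.add_self_eq_zero])

theorem sq_eq_norm (x : Q) : S.sq x = norm (P.bb x) := by
  by_cases hx : S.cls x = 0
  · obtain ⟨a, rfl⟩ := (L.cls_eq_zero x).1 hx
    rw [sq_z L, P.bb_z L, norm_zero]
  · obtain ⟨β, -, h⟩ := P.row x hx
    exact h

theorem isRow {x : Q} (hx : S.cls x ≠ 0) : IsRow S P.ψ x (P.beta x) := by
  obtain ⟨β, hβ, -⟩ := P.row x hx
  have hβ' : IsRow S P.ψ x β := hβ
  have h0 := hβ 0
  rw [map_zero, add_zero, L.phi_zero] at h0
  have hne : P.ψ (S.cls (S.f x)) ≠ 0 := psi_ne L P.bij.1 (L.cls_f_ne hx)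
  rwa [beta, if_neg hx, show P.bb x / P.bb (S.f x) = β by
    rw [div_eq_iff (by exact hne)]; exact h0.symm]

theorem beta_z (a : F) : P.beta (S.z a) = algebraMap F (QuadraticAlgebra F n b) a := by
  rw [beta, if_pos (L.cls_z a), Function.leftInverse_invFun L.z_inj a]

theorem beta_one : P.beta 1 = 0 := by rw [← L.z_zero, P.beta_z L, map_zero]

theorem beta_ne {x : Q} (hx : x ≠ 1) : P.beta x ≠ 0 := by
  by_cases hc : S.cls x = 0
  · obtain ⟨a, rfl⟩ := (L.cls_eq_zero x).1 hc
    rw [P.beta_z L, ne_eq, map_eq_zero]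
    exact fun e => hx (by rw [e, L.z_zero])
  · simpa using (P.isRow L hc).ne_base L P.bij.1 hc 0

theorem beta_mul_z (x : Q) (a : F) :
    P.beta (x * S.z a) = P.beta x + algebraMap F (QuadraticAlgebra F n b) a := by
  by_cases hc : S.cls x = 0
  · obtain ⟨c, rfl⟩ := (L.cls_eq_zero x).1 hc
    rw [← L.z_add, P.beta_z L, P.beta_z L, map_add]
  · have h1 := (P.isRow L hc).translate L P.bij.1 a
    have hc' : S.cls (x * S.z a) ≠ 0 := by rwa [L.cls_mul_z]
    have h2 := P.isRow L hc' 0
    have h3 := h1 0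
    rw [← h2] at h3
    have := mul_right_cancel₀ (psi_ne L P.bij.1 (L.phi_ne hc' 0)) h3
    rw [map_zero, add_zero, add_zero] at this
    exact this.symm

theorem beta_add_star (x : Q) :
    P.beta x + star (P.beta x) = P.bb x * star (P.bb x) := by
  rw [← algebraMap_norm_eq_mul_star, ← P.sq_eq_norm L]
  by_cases hc : S.cls x = 0
  · obtain ⟨c, rfl⟩ := (L.cls_eq_zero x).1 hc
    rw [P.beta_z L, sq_z L, star_algebraMap, map_zero]
    linear_combination (algebraMap F (QuadraticAlgebra F n b) c) * k_two (n := n) (b := b)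
  · exact (P.isRow L hc).trace L P.bij.1 P.scalar hc

theorem beta_inv (x : Q) : P.beta x⁻¹ = star (P.beta x) := by
  rw [L.inv_eq, P.beta_mul_z L, P.sq_eq_norm L, algebraMap_norm_eq_mul_star, ← P.beta_add_star L]
  linear_combination (P.beta x) * k_two (n := n) (b := b)

theorem point {x : Q} (hx : x ≠ 1) :
    P.bb (S.f x) = P.bb x / P.beta x ∧ P.beta (S.f x) = (P.beta x)⁻¹ := by
  by_cases hc : S.cls x = 0
  · obtain ⟨a, rfl⟩ := (L.cls_eq_zero x).1 hc
    have ha : a ≠ 0 := fun e => hx (by rw [e, L.z_zero])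
    rw [L.f_z a ha, P.beta_z L, P.beta_z L, P.bb_z L, P.bb_z L, zero_div, map_inv₀]
    exact ⟨rfl, rfl⟩
  · obtain ⟨h1, h2⟩ := (P.isRow L hc).point L P.bij.1 P.scalar hc
    refine ⟨h2, ?_⟩
    have hfc := L.cls_f_ne hc
    have h3 := P.isRow L hfc 0
    rw [← h1 0] at h3
    have := mul_right_cancel₀ (psi_ne L P.bij.1 (L.phi_ne hfc 0)) h3
    rwa [map_zero, add_zero, add_zero] at this

theorem gpart {x : Q} (hx : x ≠ 1) :
    P.bb (S.f x⁻¹)⁻¹ = P.bb x / star (P.beta x) ∧ P.beta (S.f x⁻¹)⁻¹ = (P.beta x)⁻¹ := by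
  obtain ⟨h1, h2⟩ := P.point L (inv_ne_one.2 hx)
  rw [P.bb_inv L, P.beta_inv L] at h1
  rw [P.beta_inv L] at h2
  rw [P.bb_inv L, h1, P.beta_inv L, h2, star_inv₀, star_star]
  exact ⟨rfl, rfl⟩

omit L in
/-- The automorphism of the base attached to `k x` is trivial. -/
theorem sigma_eq (σ : F →+* F) {s N : F} (hs : s ≠ 0) (hN : N ≠ 0)
    (hfix : ∀ c, c ≠ 0 → σ (1 + s * c + N * c * c) = 1 + s * c + N * c * c)
    (hinv : (∀ a, σ (σ a) = a) → ∀ a, σ a = a) (hq : 4 ≤ Fintype.card F) (a : F) : σ a = a := by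
  classical
  have h2 := CharTwo.two_eq_zero (R := F)
  set d := s * s / N with hd
  have hd0 : d ≠ 0 := div_ne_zero (mul_ne_zero hs hs) hN
  have hU : ∀ c, σ d * (σ c + σ c * σ c) = d * (c + c * c) := by
    intro c
    by_cases hc : c = 0
    · simp [hc]
    have h := hfix (s / N * c) (mul_ne_zero (div_ne_zero hs hN) hc)
    rw [show 1 + s * (s / N * c) + N * (s / N * c) * (s / N * c) = 1 + d * (c + c * c) by
      rw [hd]; field_simp; ring] at h
    simp only [map_add, map_mul, map_one] at h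
    linear_combination h
  obtain ⟨c, -, hc⟩ := Finset.exists_mem_notMem_of_card_lt_card
    (s := ({0, 1} : Finset F)) (t := Finset.univ)
    (lt_of_le_of_lt Finset.card_le_two (by rw [Finset.card_univ]; omega))
  simp only [Finset.mem_insert, Finset.mem_singleton, not_or] at hc
  have hne : c + c * c ≠ 0 := by
    intro e
    rcases mul_eq_zero.1 (show c * (1 + c) = 0 by linear_combination e) with h | h
    · exact hc.1 h
    · exact hc.2 (CharTwo.add_eq_zero.1 h).symm
  have he : σ d = d := by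
    have h1 := hU c
    have h3 := hU (c * c)
    rw [map_mul] at h3
    have hne' : σ c + σ c * σ c ≠ 0 := by
      intro e; rw [e, mul_zero] at h1; exact (mul_ne_zero hd0 hne) h1.symm
    have : σ d * d * (σ c + σ c * σ c) ^ 2 = σ d * σ d * (σ c + σ c * σ c) ^ 2 := by
      linear_combination d * h3 - (σ d * (σ c + σ c * σ c) + d * (c + c * c)) * h1 +
        (σ d * d * σ c * σ c * σ c - d * d * c * c * c) * h2
    exact (mul_left_cancel₀ (fun e => hd0 (by
      have := σ.injective (e.trans (map_zero σ).symm); exact this))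
      (mul_right_cancel₀ (pow_ne_zero 2 hne') this)).symm
  have hval : ∀ u, σ u = u ∨ σ u = u + 1 := by
    intro u
    have h1 := hU u
    rw [he] at h1
    rcases mul_eq_zero.1 (show (σ u + u) * (σ u + u + 1) = 0 by
      linear_combination mul_left_cancel₀ hd0 h1 + (u + u * u + σ u * u) * h2) with h | h
    · exact Or.inl (CharTwo.add_eq_zero.1 h)
    · exact Or.inr (CharTwo.add_eq_zero.1 (by linear_combination h))
  refine hinv (fun u => ?_) a
  rcases hval u with h | h
  · rw [h, h]
  · rw [h, map_add, map_one, h]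
    linear_combination h2

/-- `k x` is multiplication by `conj β / β ^ 2`. -/
theorem k_eq {x : Q} (hx : S.cls x ≠ 0) (v : E) :
    P.ψ (S.k x v) = star (P.beta x) / P.beta x ^ 2 * P.ψ v := by
  classical
  have hx1 := L.ne_one hx
  obtain ⟨σ, cc, hsemi, hsq, hinv⟩ := L.semi x hx1
  obtain ⟨g1, g2⟩ := P.gpart L hx1
  set g := (S.f x⁻¹)⁻¹
  set β := P.beta x with hβ
  set X := P.bb x with hX
  have hb0 : β ≠ 0 := P.beta_ne L hx1
  have hbs : star β ≠ 0 := star_ne_zero.2 hb0
  have hX0 : X ≠ 0 := fun e => hx ((P.bb_eq_zero L).1 e)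
  have hgc : S.cls g ≠ 0 := fun e => (div_ne_zero hX0 hbs) (g1.symm.trans ((P.bb_eq_zero L).2 e))
  have hba : ∀ a : F, β + algebraMap F (QuadraticAlgebra F n b) a ≠ 0 := fun a =>
    (P.isRow L hx).ne_base L P.bij.1 hx a
  have h2 := k_two (n := n) (b := b)
  -- the values of `k x`
  have hval : ∀ c : F, c ≠ 0 →
      P.ψ (S.phi g c) * (star β * (1 + β * algebraMap F (QuadraticAlgebra F n b) c)) = X * β ∧
      P.ψ (S.k x (S.phi g c)) = star β / β ^ 2 * P.ψ (S.phi g c) := by
    intro c hc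
    set A := algebraMap F (QuadraticAlgebra F n b) c with hA
    have hA0 : A ≠ 0 := by simpa [hA] using hc
    have hd : 1 + β * A ≠ 0 := fun e => hba c⁻¹ (by
      rw [map_inv₀, ← hA]; field_simp; linear_combination e)
    have e1 : P.ψ (S.phi g c) = X * β / (star β * (1 + β * A)) := by
      rw [(P.isRow L hgc).psi_phi L P.bij.1 hgc, ← hA, g2]
      change P.bb g / _ = _
      rw [g1]
      field_simp
    refine ⟨by rw [e1]; field_simp, ?_⟩
    have h1 := congrArg P.ψ (L.phi_eq hx (inv_ne_zero hc))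
    rw [inv_inv, map_add, (P.isRow L hx).psi_phi L P.bij.1 hx, map_inv₀, ← hA] at h1
    change X / (β + A⁻¹) = P.bb (S.f x) + _ at h1
    rw [(P.point L hx1).1] at h1
    have hne : β + A⁻¹ ≠ 0 := by rw [hA, ← map_inv₀]; exact hba c⁻¹
    rw [show X / (β + A⁻¹) = X * A / (1 + β * A) by
      rw [div_eq_div_iff hne hd]; field_simp; ring] at h1
    rw [eq_sub_of_add_eq' h1.symm, e1]
    change X * A / (1 + β * A) - X / β = _
    rw [div_sub_div _ _ hd hb0, div_mul_div_comm, div_eq_div_iff (mul_ne_zero hd hb0)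
      (mul_ne_zero (pow_ne_zero 2 hb0) (mul_ne_zero hbs hd))]
    linear_combination (-(star β * β ^ 2 * X * (1 + β * A))) * h2
  -- the automorphism is trivial
  set N := norm β with hN
  set s := S.sq x with hs
  have hs0 : s ≠ 0 := fun e => hx (L.sq_eq_zero x e)
  have hN0 : N ≠ 0 := fun e => hb0 (norm_eq_zero_iff_eq_zero.1 e)
  have hsn : norm X = s := (P.sq_eq_norm L x).symm
  have hnT : ∀ c : F, norm (1 + β * algebraMap F (QuadraticAlgebra F n b) c) =
      1 + s * c + N * c * c := by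
    intro c
    refine (algebraMap F (QuadraticAlgebra F n b)).injective ?_
    simp only [algebraMap_norm_eq_mul_star, star_add, star_one, star_mul', star_algebraMap, map_add,
      map_one, map_mul, hN, ← hsn]
    rw [← P.beta_add_star L]
    ring
  have hnk : ∀ c : F, c ≠ 0 → ∃ r, r * (1 + s * c + N * c * c) = s ∧
      cc * σ r * N = r := by
    intro c hc
    obtain ⟨h1, h3⟩ := hval c hc
    refine ⟨norm (P.ψ (S.phi g c)), ?_, ?_⟩
    · have := congrArg norm h1
      rw [map_mul, map_mul, norm_star, hnT, map_mul, hsn] at this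
      exact mul_right_cancel₀ hN0 (by linear_combination this)
    · obtain ⟨y', hy'⟩ := L.cls_surj (S.k x (S.phi g c))
      have h4 := hsq _ y' hy'
      rw [P.sq_eq_norm L, P.sq_eq_norm L] at h4
      change norm (P.ψ (S.cls y')) = cc * σ (norm (P.ψ (S.phi g c))) at h4
      rw [hy', h3] at h4
      have h5 : (star β / β ^ 2) * β ^ 2 = star β := div_mul_cancel₀ _ (pow_ne_zero 2 hb0)
      have h6 := congrArg norm h5
      rw [map_mul, map_pow, norm_star, ← hN] at h6
      rw [map_mul] at h4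
      refine mul_right_cancel₀ hN0 ?_
      linear_combination -(N ^ 2) * h4 + norm (P.ψ (S.phi g c)) * h6
  obtain ⟨r₀, hr₀, hk₀⟩ := hnk (s / N) (div_ne_zero hs0 hN0)
  rw [show 1 + s * (s / N) + N * (s / N) * (s / N) = 1 by
    field_simp; linear_combination (s * s) * CharTwo.two_eq_zero (R := F), mul_one] at hr₀
  subst r₀
  have hσ : ∀ a, σ a = a := fun a => sigma_eq σ hs0 hN0 (fun c hc => by
    obtain ⟨r, hr, hk⟩ := hnk c hc
    have hr0 : r ≠ 0 := fun e => hs0 (by rw [← hr, e, zero_mul])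
    have h1 := congrArg σ hr
    rw [map_mul] at h1
    refine mul_left_cancel₀ hr0 ?_
    linear_combination (-(σ (1 + s * c + N * c * c))) * hk + (cc * N) * h1 + hk₀ - hr) hinv
    L.op.card_field a
  -- linearity and two independent values
  let D : QuadraticAlgebra F n b →+ QuadraticAlgebra F n b :=
    (P.ψ.comp ((S.k x).comp (AddEquiv.ofBijective P.ψ P.bij).symm.toAddMonoidHom)) -
      AddMonoidHom.mulLeft (star β / β ^ 2)
  have hD : ∀ u, D (P.ψ u) = P.ψ (S.k x u) - star β / β ^ 2 * P.ψ u := fun u => by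
    show P.ψ (S.k x ((AddEquiv.ofBijective P.ψ P.bij).symm (P.ψ u))) - _ = _
    rw [show (AddEquiv.ofBijective P.ψ P.bij).symm (P.ψ u) = u from
      (AddEquiv.ofBijective P.ψ P.bij).symm_apply_apply u]
    rfl
  have hDl : ∀ (a : F) w, D (a • w) = a • D w := by
    intro a w
    obtain ⟨u, rfl⟩ := P.bij.2 w
    rw [Algebra.smul_def, ← P.scalar, hD, hD, hsemi, hσ, P.scalar, P.scalar, Algebra.smul_def]
    ring
  obtain ⟨c, -, hc⟩ := Finset.exists_mem_notMem_of_card_lt_card
    (s := ({0, 1} : Finset F)) (t := Finset.univ)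
    (lt_of_le_of_lt Finset.card_le_two (by rw [Finset.card_univ]; have := L.op.card_field; omega))
  simp only [Finset.mem_insert, Finset.mem_singleton, not_or] at hc
  set w₁ := P.ψ (S.phi g 1)
  set w₂ := P.ψ (S.phi g c)
  have hw₁ : D w₁ = 0 := by rw [hD, (hval 1 one_ne_zero).2, sub_self]
  have hw₂ : D w₂ = 0 := by rw [hD, (hval c hc.1).2, sub_self]
  have hw0 : w₁ ≠ 0 := psi_ne L P.bij.1 (L.phi_ne hgc 1)
  have hind : ∀ r : F, r • w₁ ≠ w₂ := by
    intro r hr
    have e1 := (hval 1 one_ne_zero).1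
    have e2 := (hval c hc.1).1
    change w₁ * _ = _ at e1
    change w₂ * _ = _ at e2
    rw [← hr, Algebra.smul_def] at e2
    rw [map_one, mul_one] at e1
    set R := algebraMap F (QuadraticAlgebra F n b) r
    set C := algebraMap F (QuadraticAlgebra F n b) c
    have e3 : R * (1 + β * C) = 1 + β := mul_left_cancel₀ (mul_ne_zero hw0 hbs) (by
      linear_combination e2 - e1)
    by_cases hrc : r * c + 1 = 0
    · refine hc.2 ?_
      have hR : R = 1 := by
        have : R * C + 1 = 0 := by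
          rw [show R * C + 1 = algebraMap F (QuadraticAlgebra F n b) (r * c + 1) by
            rw [map_add, map_mul, map_one], hrc, map_zero]
        linear_combination e3 - β * this + (β : QuadraticAlgebra F n b) * h2
      have : r = 1 := (algebraMap F (QuadraticAlgebra F n b)).injective (hR.trans (map_one _).symm)
      rw [this, one_mul] at hrc
      exact CharTwo.add_eq_zero.1 hrc
    · refine hba ((r + 1) / (r * c + 1)) ?_
      have hD' : algebraMap F (QuadraticAlgebra F n b) (r * c + 1) ≠ 0 :=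
        (map_ne_zero _).2 hrc
      rw [map_add, map_mul, map_one] at hD'
      rw [map_div₀, map_add, map_add, map_mul, map_one]
      field_simp
      linear_combination e3 + (1 + β) * h2
  have : Finite (QuadraticAlgebra F n b) :=
    Finite.of_equiv _ (QuadraticAlgebra.equivProd n b).symm
  obtain ⟨⟨r₁, r₂⟩, hr⟩ := ((Nat.bijective_iff_injective_and_card
    (fun p : F × F => p.1 • w₁ + p.2 • w₂)).2 ⟨pair_injective hw0 hind, by
      rw [Nat.card_prod, Nat.card_congr (QuadraticAlgebra.equivProd n b), Nat.card_prod]⟩).2 (P.ψ v)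
  change r₁ • w₁ + r₂ • w₂ = P.ψ v at hr
  have h0 : D (P.ψ v) = 0 := by
    rw [← hr, map_add, hDl, hDl, hw₁, hw₂, smul_zero, smul_zero, add_zero]
  rw [hD, sub_eq_zero] at h0
  exact h0

end Frame

end Cfsg.Agent.H36.RankOneU3
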