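import Cfsg.Agent.H38.RankOne

/-!
# The canonical form `t x t = f k t g` of a rank-one set-up

`Decomp` packages the three components and their behaviour under inversion, the point map, conjugation
by the two-point stabiliser, and products.
-/

set_option autoImplicit false
set_option linter.unusedSimpArgs false

namespace Cfsg.Agent.H36.RankOneU3

open MulAction

variable {G Ω : Type*} [Group G] [MulAction G Ω] {a : Ω} {t : G} {Q : Subgroup G}

local notation "DD" => stabilizer G a ⊓ stabilizer G (t • a)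

/-- The canonical form of `t x t`. -/
def IsForm (a : Ω) (t : G) (Q : Subgroup G) (x f k g : G) : Prop :=
  f ∈ Q ∧ k ∈ stabilizer G a ⊓ stabilizer G (t • a) ∧ g ∈ Q ∧ t * x * t = f * k * t * g

variable (hS : Cfsg.IsRankOneSetup G Ω a t Q)
include hS

theorem exists_form {x : G} (hx : x ∈ Q) (hx1 : x ≠ 1) : ∃ f k g, IsForm a t Q x f k g := by
  have hn : t * x * t ∉ stabilizer G a := by
    intro h
    refine hx1 (H38.eq_one_of_fix_base hS hx ?_)
    have h' : (t * x * t) • a = a := h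
    rw [mul_smul, mul_smul] at h'
    have := congrArg (t • ·) h'
    simpa [H38.t_smul_t_smul hS] using this
  obtain ⟨u, hu, g, hg, e⟩ := H38.canon_exists hS hn
  obtain ⟨f, hf, k, hk, rfl⟩ := H38.exists_decomp hS hu
  exact ⟨f, k, g, hf, hk, hg, e⟩

theorem form_unique {x f k g f' k' g' : G} (h : IsForm a t Q x f k g)
    (h' : IsForm a t Q x f' k' g') : f = f' ∧ k = k' ∧ g = g' :=
  H38.canon_unique' hS h.1 h'.1 h.2.1 h'.2.1 h.2.2.1 h'.2.2.1 (h.2.2.2.symm.trans h'.2.2.2)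

theorem conj_t_mem {d : G} (hd : d ∈ stabilizer G a ⊓ stabilizer G (t • a)) :
    t * d * t ∈ stabilizer G a ⊓ stabilizer G (t • a) := by
  have := H38.t_mem_normalizer_D hS hd
  rwa [H38.t_inv hS] at this

theorem IsForm.inv {x f k g : G} (h : IsForm a t Q x f k g) :
    IsForm a t Q x⁻¹ g⁻¹ (t * k⁻¹ * t) f⁻¹ := by
  obtain ⟨hf, hk, hg, e⟩ := h
  refine ⟨inv_mem hg, conj_t_mem hS (inv_mem hk), inv_mem hf, ?_⟩
  have e' := congrArg (·⁻¹) e
  simp only [mul_inv_rev, H38.t_inv hS] at e'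
  rw [show t * x⁻¹ * t = t * (x⁻¹ * t) by group, e']
  simp only [mul_assoc]
  rw [← mul_assoc t t, hS.mul_self, one_mul]

theorem IsForm.point {x f k g : G} (hx : x ∈ Q) (h : IsForm a t Q x f k g) :
    IsForm a t Q f x k⁻¹ (t * k * t * g⁻¹ * (t * k * t)⁻¹) := by
  obtain ⟨hf, hk, hg, e⟩ := h
  refine ⟨hx, inv_mem hk, hS.conj_mem _ (conj_t_mem hS hk).1 _ (inv_mem hg), ?_⟩
  have e' : f = t * x * t * g⁻¹ * t * k⁻¹ := by rw [e]; simp [mul_assoc, ← mul_assoc t t, hS.mul_self]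
  rw [e']
  simp [mul_assoc, mul_inv_rev, H38.t_inv hS, ← mul_assoc t t, hS.mul_self]

theorem IsForm.conj {x f k g d : G} (hd : d ∈ stabilizer G a ⊓ stabilizer G (t • a))
    (h : IsForm a t Q x f k g) :
    IsForm a t Q (d * x * d⁻¹) (t * d * t * f * (t * d * t)⁻¹) (t * d * t * k * d⁻¹)
      (t * d * t * g * (t * d * t)⁻¹) := by
  obtain ⟨hf, hk, hg, e⟩ := h
  have hd' := conj_t_mem hS hd
  refine ⟨hS.conj_mem _ hd'.1 _ hf, mul_mem (mul_mem hd' hk) (inv_mem hd),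
    hS.conj_mem _ hd'.1 _ hg, ?_⟩
  calc t * (d * x * d⁻¹) * t = t * d * t * (t * x * t) * (t * d * t)⁻¹ := by
        simp [mul_assoc, mul_inv_rev, H38.t_inv hS, ← mul_assoc t t, hS.mul_self]
    _ = _ := by
        rw [e]
        simp [mul_assoc, mul_inv_rev, H38.t_inv hS, ← mul_assoc t t, hS.mul_self]

theorem IsForm.ne_one {x y f k g f₁ k₁ g₁ : G} (hx : x ∈ Q) (hy : y ∈ Q) (hxy : x * y ≠ 1)
    (h : IsForm a t Q x f k g) (h₁ : IsForm a t Q y f₁ k₁ g₁) : g * f₁ ≠ 1 := by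
  intro e
  obtain ⟨hf, hk, -, e0⟩ := h
  obtain ⟨-, hk₁, hg₁, e1⟩ := h₁
  have h3 : t * (x * y) * t = f * k * (t * k₁ * t) * g₁ := by
    calc t * (x * y) * t = t * x * t * (t * y * t) := by
          simp [mul_assoc, ← mul_assoc t t, hS.mul_self]
      _ = f * k * t * (g * f₁) * k₁ * t * g₁ := by rw [e0, e1]; simp [mul_assoc]
      _ = _ := by rw [e]; simp [mul_assoc]
  have h4 : t * (x * y) * t ∈ stabilizer G a := by
    rw [h3]
    exact mul_mem (mul_mem (mul_mem (hS.le hf) hk.1) (conj_t_mem hS hk₁).1) (hS.le hg₁)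
  refine hxy (H38.eq_one_of_fix_base hS (mul_mem hx hy) ?_)
  have h' : (t * (x * y) * t) • a = a := h4
  rw [mul_smul, mul_smul] at h'
  have := congrArg (t • ·) h'
  simpa [H38.t_smul_t_smul hS] using this

theorem IsForm.mul {x y f k g f₁ k₁ g₁ f₂ k₂ g₂ : G} (h : IsForm a t Q x f k g)
    (h₁ : IsForm a t Q y f₁ k₁ g₁) (h₂ : IsForm a t Q (g * f₁) f₂ k₂ g₂) :
    IsForm a t Q (x * y) (f * (k * f₂ * k⁻¹)) (k * k₂ * k₁)
      ((t * k₁ * t)⁻¹ * g₂ * (t * k₁ * t) * g₁) := by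
  obtain ⟨hf, hk, -, e⟩ := h
  obtain ⟨-, hk₁, hg₁, e1⟩ := h₁
  obtain ⟨hf₂, hk₂, hg₂, e2⟩ := h₂
  have hd' := conj_t_mem hS hk₁
  refine ⟨mul_mem hf (hS.conj_mem _ hk.1 _ hf₂), mul_mem (mul_mem hk hk₂) hk₁,
    mul_mem ?_ hg₁, ?_⟩
  · simpa using hS.conj_mem _ (inv_mem hd'.1) _ hg₂
  · calc t * (x * y) * t = t * x * t * (t * y * t) := by
          simp [mul_assoc, ← mul_assoc t t, hS.mul_self]
      _ = f * k * (t * (g * f₁) * t) * (t * k₁ * t) * g₁ := by
          rw [e, e1]; simp [mul_assoc, ← mul_assoc t t, hS.mul_self]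
      _ = _ := by
          rw [e2]; simp [mul_assoc, mul_inv_rev, H38.t_inv hS, ← mul_assoc t t, hS.mul_self]

/-- The point map sends the point of `x` to that of its left component. -/
theorem IsForm.smul {x f k g : G} (h : IsForm a t Q x f k g) :
    t • (x • (t • a)) = f • (t • a) := by
  obtain ⟨-, hk, hg, e⟩ := h
  rw [← mul_smul, ← mul_smul, e, mul_smul, H38.Q_fix hS hg, mul_smul, mul_smul,
    (H38.mem_D_iff.1 hk).2]

end Cfsg.Agent.H36.RankOneU3
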