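import Cfsg.Agent.H36.RankOneU3.Linear

/-!
# The product rule and the coordinates

`beta (x * y) = beta x + beta y + bb y * conj (bb x)`, so `x ↦ (bb x, beta x)` identifies `Q` with
the unipotent radical of a unitary group of dimension three, and the point map with that of the flip.
-/

set_option autoImplicit false
set_option linter.unusedSectionVars false

namespace Cfsg.Agent.H36.RankOneU3

open QuadraticAlgebra

variable {F : Type*} [Field F] [Fintype F] [CharP F 2] {n b : F}
  [hfact : Fact (∀ r, r ^ 2 ≠ n + b * r)]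
  {Q : Type*} [Group Q] {E : Type*} [AddCommGroup E] [Finite E] {S : Sys Q F E}

namespace Frame

/-- The defect of the product rule. -/
noncomputable def defect (P : Frame S n b) (x y : Q) : QuadraticAlgebra F n b :=
  P.beta (x * y) + P.beta x + P.beta y + P.bb y * star (P.bb x)

variable (P : Frame S n b) (L : S.Law)
include L

theorem star_defect (x y : Q) : star (P.defect x y) = P.defect x y := by
  have h1 := P.beta_add_star L (x * y)
  rw [P.bb_mul L, star_add] at h1
  simp only [defect, star_add, star_mul', star_star]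
  linear_combination h1 + P.beta_add_star L x + P.beta_add_star L y -
    (P.beta (x * y) + P.beta x + P.beta y - P.bb x * star (P.bb x) - P.bb y * star (P.bb y) -
      P.bb x * star (P.bb y)) * k_two (n := n) (b := b)

theorem defect_mul_z (x y : Q) (a : F) : P.defect x (y * S.z a) = P.defect x y := by
  rw [defect, defect, ← mul_assoc, P.beta_mul_z L, P.beta_mul_z L, P.bb_mul_z L]
  linear_combination (algebraMap F (QuadraticAlgebra F n b) a) * k_two (n := n) (b := b)

theorem defect_step {x y : Q} (hx : S.cls x ≠ 0) (hy : y ≠ 1) (hxy : x * y ≠ 1) :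
    ∃ D, star D = D ∧ D * (P.beta y * (P.bb x * P.beta y + P.bb y * star (P.beta x) +
      P.bb x * P.defect x y)) = P.defect x y * (P.bb x + P.bb y) := by
  have h2 := k_two (n := n) (b := b)
  have hx1 := L.ne_one hx
  obtain ⟨hu, hp⟩ := L.prod x y hx1 hy hxy
  obtain ⟨g1, g2⟩ := P.gpart L hx1
  obtain ⟨y1, y2⟩ := P.point L hy
  set g := (S.f x⁻¹)⁻¹
  set u := g * S.f y with hudef
  refine ⟨P.defect g (S.f y), P.star_defect L g _, ?_⟩
  set D := P.defect g (S.f y) with hD
  obtain ⟨u1, -⟩ := P.point L hu
  have hp' := congrArg P.ψ hp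
  rw [map_add, P.k_eq L hx] at hp'
  change P.bb _ = P.bb _ + _ * P.bb _ at hp'
  rw [(P.point L hxy).1, (P.point L hx1).1, u1, P.bb_mul L, hudef, P.bb_mul L, g1, y1] at hp'
  have hn := P.beta_add_star L x
  have hδ : P.beta (x * y) = P.beta x + P.beta y + P.bb y * star (P.bb x) + P.defect x y := by
    rw [defect]
    linear_combination -(P.beta x + P.beta y + P.bb y * star (P.bb x)) * h2
  have hU : P.beta (g * S.f y) =
      P.beta g + P.beta (S.f y) + P.bb (S.f y) * star (P.bb g) + D := by
    rw [hD, defect]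
    linear_combination -(P.beta g + P.beta (S.f y) + P.bb (S.f y) * star (P.bb g)) * h2
  rw [g1, g2, y1, y2, star_div₀, star_star] at hU
  have hbx : P.beta x ≠ 0 := P.beta_ne L hx1
  have hbs : star (P.beta x) ≠ 0 := star_ne_zero.2 hbx
  have hby : P.beta y ≠ 0 := P.beta_ne L hy
  have hbxy : P.beta (x * y) ≠ 0 := P.beta_ne L hxy
  have hbu : P.beta (g * S.f y) ≠ 0 := P.beta_ne L hu
  generalize P.defect x y = δ at hδ ⊢
  generalize P.beta (x * y) = B at hp' hδ hbxy
  generalize P.beta (g * S.f y) = U at hp' hU hbu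
  generalize P.bb x = X at hp' hδ hU hn ⊢
  generalize P.bb y = Y at hp' hδ hU ⊢
  generalize star X = X' at hδ hU hn
  generalize star (P.beta x) = bs at hp' hn hbs ⊢
  generalize P.beta x = bx at hp' hδ hU hn hbx ⊢
  generalize P.beta y = «by» at hp' hδ hU hby ⊢
  field_simp at hp' hU
  have key : bx * (D * («by» * (X * «by» + Y * bs + X * δ))) = bx * (δ * (X + Y)) := by
    subst hδ
    grind
  exact mul_left_cancel₀ hbx key

/-- The product rule. -/
theorem beta_mul (x y : Q) :
    P.beta (x * y) = P.beta x + P.beta y + P.bb y * star (P.bb x) := by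
  classical
  have h2 := k_two (n := n) (b := b)
  suffices h : P.defect x y = 0 by
    rw [defect] at h
    linear_combination h - (P.beta x + P.beta y + P.bb y * star (P.bb x)) * h2
  by_cases hx : S.cls x = 0
  · obtain ⟨a, rfl⟩ := (L.cls_eq_zero x).1 hx
    rw [defect, L.z_comm, P.beta_mul_z L, P.beta_z L, P.bb_z L, star_zero, mul_zero]
    linear_combination (P.beta y + algebraMap F (QuadraticAlgebra F n b) a) * h2
  by_cases hy : S.cls y = 0
  · obtain ⟨a, rfl⟩ := (L.cls_eq_zero y).1 hy
    rw [defect, P.beta_mul_z L, P.beta_z L, P.bb_z L, zero_mul]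
    linear_combination (P.beta x + algebraMap F (QuadraticAlgebra F n b) a) * h2
  by_cases hxy : S.cls (x * y) = 0
  · obtain ⟨a, ha⟩ := (L.cls_eq_zero _).1 hxy
    obtain rfl : y = x⁻¹ * S.z a := by rw [← ha, inv_mul_cancel_left]
    rw [defect, mul_inv_cancel_left, P.beta_z L, P.beta_mul_z L, P.beta_inv L, P.bb_mul_z L,
      P.bb_inv L]
    linear_combination P.beta_add_star L x +
      (algebraMap F (QuadraticAlgebra F n b) a + P.bb x * star (P.bb x)) * h2
  by_contra hδ
  set δ := P.defect x y with hδdef
  set X := P.bb x with hX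
  set Y := P.bb y with hY
  set bs := star (P.beta x) with hbs
  have hS : X + Y ≠ 0 := fun e => hxy ((P.bb_eq_zero L).1 ((P.bb_mul L x y).trans e))
  have hY0 : Y ≠ 0 := fun e => hy ((P.bb_eq_zero L).1 e)
  -- the quadratic takes values fixed by conjugation
  let G : F → QuadraticAlgebra F n b := fun a =>
    (P.beta y + algebraMap F _ a) *
      (X * P.beta y + Y * bs + X * δ + algebraMap F _ a * X) / (X + Y)
  have hG : ∀ a, star (G a) = G a := by
    intro a
    have hy' : S.cls (y * S.z a) ≠ 0 := by rwa [L.cls_mul_z]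
    have hxy' : x * (y * S.z a) ≠ 1 := by
      rw [← mul_assoc]
      exact L.ne_one (by rwa [L.cls_mul_z])
    obtain ⟨D, hD, he⟩ := P.defect_step L hx (L.ne_one hy') hxy'
    rw [P.defect_mul_z L, ← hδdef, P.beta_mul_z L, P.bb_mul_z L, ← hX, ← hY, ← hbs] at he
    have hD0 : D ≠ 0 := fun e => (mul_ne_zero hδ hS) (by rw [← he, e, zero_mul])
    have : G a = δ / D := by
      show _ / (X + Y) = δ / D
      rw [div_eq_div_iff hS hD0, ← he]
      ring
    rw [this, star_div₀, hD, hδdef, P.star_defect L]
  obtain ⟨c, -, hc⟩ := Finset.exists_mem_notMem_of_card_lt_card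
    (s := ({0, 1} : Finset F)) (t := Finset.univ)
    (lt_of_le_of_lt Finset.card_le_two (by rw [Finset.card_univ]; have := L.op.card_field; omega))
  simp only [Finset.mem_insert, Finset.mem_singleton, not_or] at hc
  set C := algebraMap F (QuadraticAlgebra F n b) c with hC
  have hC1 : C * C + C ≠ 0 := by
    rw [hC, ← map_mul, ← map_add, ne_eq, map_eq_zero]
    intro e
    rcases mul_eq_zero.1 (show c * (c + 1) = 0 by linear_combination e) with h | h
    · exact hc.1 h
    · exact hc.2 (CharTwo.add_eq_zero.1 h)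
  set r₂ := X / (X + Y) with hr₂
  set r₁ := (Y * bs + X * δ) / (X + Y) with hr₁
  have hdiff : ∀ a, G a = G 0 + (algebraMap F _ a * algebraMap F _ a * r₂ +
      algebraMap F _ a * r₁) := by
    intro a
    simp only [G, hr₁, hr₂, map_zero]
    field_simp
    linear_combination (algebraMap F (QuadraticAlgebra F n b) a * X * P.beta y) * h2
  have h1 : star (r₂ + r₁) = r₂ + r₁ := by
    have := hG 1
    rw [hdiff 1, star_add, hG 0, map_one] at this
    simpa using this
  have h3 : star (C * C * r₂ + C * r₁) = C * C * r₂ + C * r₁ := by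
    have := hG c
    rw [hdiff c, star_add, hG 0, ← hC] at this
    exact add_left_cancel this
  simp only [star_add, star_mul', hC, star_algebraMap] at h1 h3
  rw [← hC] at h3
  have hr₂' : star r₂ = r₂ := mul_left_cancel₀ hC1 (by
    linear_combination h3 - C * h1 + (C * star r₂ - C * r₂) * h2)
  have hr₁' : star r₁ = r₁ := by linear_combination h1 - hr₂'
  have hYS : star (Y / (X + Y)) = Y / (X + Y) := by
    rw [show Y / (X + Y) = 1 - r₂ by rw [hr₂]; field_simp; ring, star_sub, star_one, hr₂']
  have hmix : star (Y / (X + Y) * bs) = Y / (X + Y) * bs := by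
    rw [show Y / (X + Y) * bs = r₁ - r₂ * δ by rw [hr₁, hr₂]; field_simp; ring, star_sub,
      star_mul', hr₁', hr₂', hδdef, P.star_defect L]
  rw [star_mul', hYS] at hmix
  obtain ⟨r, hr⟩ := exists_of_star_eq (z := bs) (mul_left_cancel₀ (div_ne_zero hY0 hS) hmix)
  refine (P.isRow L hx).ne_base L P.bij.1 hx r ?_
  rw [← star_star (P.beta x), ← hbs, hr, star_algebraMap]
  linear_combination (algebraMap F (QuadraticAlgebra F n b) r) * h2

end Frame

omit [CharP F 2] in
theorem card_quad : Nat.card (QuadraticAlgebra F n b) = Fintype.card F ^ 2 := by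
  rw [Nat.card_congr (QuadraticAlgebra.equivProd n b), Nat.card_prod, Nat.card_eq_fintype_card, sq]

include hfact in
/-- Conjugation is the power by the order of the base field. -/
theorem star_eq_pow (z : QuadraticAlgebra F n b) : star z = z ^ Fintype.card F := by
  have : Finite (QuadraticAlgebra F n b) :=
    Finite.of_equiv _ (QuadraticAlgebra.equivProd n b).symm
  let φ := FiniteField.frobeniusAlgHom F (QuadraticAlgebra F n b)
  have hφ : ∀ u, φ u = u ^ Fintype.card F := fun u => rfl
  have hz : ∀ u : QuadraticAlgebra F n b,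
      u = algebraMap F _ u.re + algebraMap F _ u.im * ω := fun u => by
    rw [← Algebra.smul_def]
    exact mk_eq_add_smul_omega _ _
  have hw : φ ω * φ ω = algebraMap F _ n + algebraMap F _ b * φ ω := by
    rw [← map_mul, omega_mul_omega_eq_algebraMap, map_add, map_mul, AlgHom.commutes,
      AlgHom.commutes]
  have hcase : (φ ω - ω) * (φ ω + ω - algebraMap F _ b) = 0 := by
    linear_combination hw - omega_mul_omega_eq_algebraMap (R := F) (a := n) (b := b)
  have h2 := k_two (n := n) (b := b)
  have hsω : star (ω : QuadraticAlgebra F n b) = algebraMap F _ b + ω := by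
    rw [star_eq, trace_omega]
    linear_combination -(ω : QuadraticAlgebra F n b) * h2
  have hω : φ ω = star ω := by
    rcases mul_eq_zero.1 hcase with h | h
    · exfalso
      rw [sub_eq_zero] at h
      have hall : ∀ u : QuadraticAlgebra F n b, u ^ Fintype.card F = u := fun u => by
        rw [← hφ, hz u, map_add, map_mul, AlgHom.commutes, AlgHom.commutes, h]
      have hq := Fintype.one_lt_card (α := F)
      have := card_le_of_pow_eq hq hall
      rw [card_quad] at this
      nlinarith
    · rw [hsω]
      linear_combination h - ω * h2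
  rw [← hφ, hz z, map_add, map_mul, AlgHom.commutes, AlgHom.commutes, hω, star_add, star_mul',
    star_algebraMap, star_algebraMap]

/-- Coordinates of a system in the unitary group of dimension three. -/
theorem exists_coords {Q : Type*} [Group Q] {E : Type*} [AddCommGroup E] [Finite E]
    {F : Type} [Field F] [Fintype F] [CharP F 2] {S : Sys Q F E} (L : S.Law) :
    ∃ (K : Type) (_ : Field K) (_ : Fintype K), Fintype.card K = Fintype.card F ^ 2 ∧
      ∃ c : Q → K × K, Function.Injective c ∧
        (∀ x, (c x).2 + (c x).2 ^ Fintype.card F + (c x).1 * (c x).1 ^ Fintype.card F = 0) ∧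
        (∀ p : K × K, p.2 + p.2 ^ Fintype.card F + p.1 * p.1 ^ Fintype.card F = 0 → ∃ x, c x = p) ∧
        (∀ x y, c (x * y) = ((c x).1 + (c y).1,
          (c x).2 + (c y).2 - (c y).1 * (c x).1 ^ Fintype.card F)) ∧
        ∀ x, x ≠ 1 → c (S.f x) = (-((c x).1 / (c x).2), ((c x).2)⁻¹) := by
  classical
  obtain ⟨n, b, hF, ⟨P⟩⟩ := exists_frame L
  have h2 := k_two (n := n) (b := b)
  let hFin : Fintype (QuadraticAlgebra F n b) :=
    Fintype.ofEquiv _ (QuadraticAlgebra.equivProd n b).symm
  refine ⟨QuadraticAlgebra F n b, inferInstance, hFin, ?_, fun x => (P.bb x, P.beta x), ?_, ?_,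
    ?_, ?_, ?_⟩
  · rw [← Nat.card_eq_fintype_card, card_quad]
  · intro x y h
    obtain ⟨h1, h3⟩ := Prod.ext_iff.1 h
    obtain ⟨a, rfl⟩ := L.cls_eq_iff (P.bij.1 h1)
    change P.beta x = P.beta (x * S.z a) at h3
    rw [P.beta_mul_z L, left_eq_add, map_eq_zero] at h3
    rw [h3, L.z_zero, mul_one]
  · intro x
    rw [← star_eq_pow, ← star_eq_pow, P.beta_add_star L]
    linear_combination (P.bb x * star (P.bb x)) * h2
  · rintro ⟨X, B⟩ hB
    rw [← star_eq_pow, ← star_eq_pow] at hB
    change B + star B + X * star X = 0 at hB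
    obtain ⟨v, hv⟩ := P.bij.2 X
    obtain ⟨x, rfl⟩ := L.cls_surj v
    change P.bb x = X at hv
    have hreal : star (B + P.beta x) = B + P.beta x := by
      have h3 := P.beta_add_star L x
      rw [hv] at h3
      rw [star_add]
      linear_combination hB + h3 - (B + P.beta x) * h2
    obtain ⟨r, hr⟩ := exists_of_star_eq hreal
    refine ⟨x * S.z r, Prod.ext ((P.bb_mul_z L x r).trans hv) ?_⟩
    show P.beta (x * S.z r) = B
    rw [P.beta_mul_z L, ← hr]
    linear_combination P.beta x * h2
  · intro x y
    refine Prod.ext (P.bb_mul L x y) ?_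
    show P.beta (x * y) = _
    rw [P.beta_mul L, ← star_eq_pow]
    linear_combination (P.bb y * star (P.bb x)) * h2
  · intro x hx
    obtain ⟨h1, h3⟩ := P.point L hx
    refine Prod.ext ?_ h3
    show P.bb (S.f x) = -(P.bb x / P.beta x)
    rw [h1]
    linear_combination (P.bb x / P.beta x) * h2

end Cfsg.Agent.H36.RankOneU3
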