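import Cfsg.Agent.H36.RankOneU3.Additive
import Mathlib.LinearAlgebra.Prod

/-!
# A single row in a plane over `F`

A row satisfying the row equation of `X` is given by an endomorphism `J` with irreducible quadratic
equation: `J (φ ε) + ε • φ ε = X`, and it meets every line other than that of `X`.
-/

set_option autoImplicit false

namespace Cfsg.Agent.H36.RankOneU3

variable {F E : Type*} [Field F] [Fintype F] [CharP F 2] [AddCommGroup E] [Finite E] [Module F E]

/-- The row equation, for scalar multiplication. -/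
structure REqn (X : E) (φ : F → E) (s : F) : Prop where
  ne : ∀ ε, φ ε ≠ 0
  s_ne : s ≠ 0
  rel : ∀ ε α, α ≠ 0 → ∃ γ : F, γ ≠ 0 ∧ α • φ ε = X + γ • φ (ε + α + s + γ)

omit [Fintype F] [CharP F 2] [Finite E] in
theorem REqn.smul_ne {X : E} (hX : X ≠ 0) {φ : F → E} {s : F} (e : REqn X φ s) (l ε : F) :
    l • φ ε ≠ X := by
  intro hl
  by_cases hl0 : l = 0
  · exact hX (by rw [← hl, hl0, zero_smul])
  · obtain ⟨γ, hγ, hr⟩ := e.rel ε l hl0
    rw [hl, left_eq_add, smul_eq_zero] at hr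
    exact hr.elim hγ (e.ne _)

omit [Fintype F] [CharP F 2] [Finite E] in
/-- Two independent vectors are coordinates in a plane. -/
theorem pair_injective {X Y : E} (hX : X ≠ 0) (hY : ∀ c : F, c • X ≠ Y) :
    Function.Injective fun p : F × F => p.1 • X + p.2 • Y := by
  rintro ⟨a, b⟩ ⟨a', b'⟩ h
  change a • X + b • Y = a' • X + b' • Y at h
  have h2 : (a - a') • X = (b' - b) • Y := by
    rw [sub_smul, sub_smul]; linear_combination (norm := abel) h
  by_cases hb : b' - b = 0
  · rw [hb, zero_smul, smul_eq_zero, sub_eq_zero] at h2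
    rw [sub_eq_zero] at hb
    exact Prod.ext (h2.resolve_right hX) hb.symm
  · exact (hY ((b' - b)⁻¹ * (a - a')) (by
      rw [mul_smul, h2, ← mul_smul, inv_mul_cancel₀ hb, one_smul])).elim

/-- The shape of a row in the basis `X`, `Y`. -/
theorem exists_row_coords (hcard : Nat.card E = Fintype.card F ^ 2) {X Y : E} (hX : X ≠ 0)
    (hY : ∀ c : F, c • X ≠ Y) {φ : F → E} {s : F} (e : REqn X φ s) :
    ∃ a e₀ P₀ : F, a ≠ 0 ∧ (∀ w, P₀ + a * w * w + s * w ≠ 0) ∧
      ∀ w, (P₀ + a * w * w + s * w) • φ (a * w + e₀) = w • X + Y := by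
  classical
  have h2 := CharTwo.two_eq_zero (R := F)
  let cE : F × F → E := fun p => p.1 • X + p.2 • Y
  have hc : Function.Bijective cE := (Nat.bijective_iff_injective_and_card cE).2
    ⟨pair_injective hX hY, by rw [Nat.card_prod, Nat.card_eq_fintype_card, hcard, sq]⟩
  choose c hc' using fun ε => hc.2 (φ ε)
  set u := fun ε => (c ε).1 with hu
  set p := fun ε => (c ε).2 with hp
  have hφ : ∀ ε, φ ε = u ε • X + p ε • Y := fun ε => (hc' ε).symm
  have hp0 : ∀ ε, p ε ≠ 0 := by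
    intro ε z
    have h1 := hφ ε
    rw [z, zero_smul, add_zero] at h1
    have hu0 : u ε ≠ 0 := fun z' => e.ne ε (by rw [h1, z', zero_smul])
    exact e.smul_ne hX (u ε)⁻¹ ε (by rw [h1, ← mul_smul, inv_mul_cancel₀ hu0, one_smul])
  let D : F → F := fun ε => u ε / p ε
  have hD : ∀ ε α, α ≠ 0 → ∃ γ, γ ≠ 0 ∧ γ * p (ε + α + s + γ) = α * p ε ∧
      D (ε + α + s + γ) = D ε + (α * p ε)⁻¹ := by
    intro ε α hα
    obtain ⟨γ, hγ, hr⟩ := e.rel ε α hα
    set η := ε + α + s + γ
    have h1 : cE (α * u ε, α * p ε) = cE (1 + γ * u η, γ * p η) := by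
      show (α * u ε) • X + (α * p ε) • Y = (1 + γ * u η) • X + (γ * p η) • Y
      rw [mul_smul, mul_smul, ← smul_add, ← hφ, hr, hφ]
      module
    obtain ⟨h3, h4⟩ := Prod.ext_iff.1 (hc.1 h1)
    change α * u ε = 1 + γ * u η at h3
    change α * p ε = γ * p η at h4
    refine ⟨γ, hγ, h4.symm, ?_⟩
    show u η / p η = u ε / p ε + (α * p ε)⁻¹
    have e1 : u η / p η = γ * u η / (γ * p η) := (mul_div_mul_left _ _ hγ).symm
    have e2 : u ε / p ε = α * u ε / (α * p ε) := (mul_div_mul_left _ _ hα).symm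
    rw [e1, e2, ← h4, inv_eq_one_div, ← add_div, h3]
    congr 1
    linear_combination -h2
  have hsurj : Function.Surjective D := by
    intro y
    by_cases hy : y + D 0 = 0
    · exact ⟨0, (CharTwo.add_eq_zero.1 hy).symm⟩
    obtain ⟨γ, -, -, hd⟩ := hD 0 ((y + D 0) * p 0)⁻¹ (inv_ne_zero (mul_ne_zero hy (hp0 0)))
    refine ⟨_, hd.trans ?_⟩
    rw [show ((y + D 0) * p 0)⁻¹ * p 0 = (y + D 0)⁻¹ by field_simp [hp0 0], inv_inv]
    linear_combination D 0 * h2
  let De := Equiv.ofBijective D ⟨Finite.injective_iff_surjective.2 hsurj, hsurj⟩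
  have key : ∀ w y : F, id y * (De.symm (w + y) + De.symm w + s) =
      (p (De.symm w))⁻¹ + (p (De.symm (w + y)))⁻¹ := by
    intro w y
    by_cases hy : y = 0
    · subst hy
      simp [CharTwo.add_self_eq_zero]
    set ε := De.symm w
    obtain ⟨γ, hγ, hP', hd⟩ := hD ε (y * p ε)⁻¹ (inv_ne_zero (mul_ne_zero hy (hp0 ε)))
    set η := ε + (y * p ε)⁻¹ + s + γ with hη
    have hDε : D ε = w := De.apply_symm_apply w
    have h4 : γ * p η = y⁻¹ := by
      rw [hP', mul_inv, mul_assoc, inv_mul_cancel₀ (hp0 ε), mul_one]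
    have : D η = w + y := by
      rw [hd, hDε, show ((y * p ε)⁻¹ * p ε)⁻¹ = y by field_simp [hp0 ε]]
    rw [De.symm_apply_eq.2 this.symm]
    have hγ' : γ = (y * p η)⁻¹ := by
      rw [mul_inv, ← h4, mul_assoc, mul_inv_cancel₀ (hp0 η), mul_one]
    rw [show η + ε + s = (y * p ε)⁻¹ + γ by linear_combination hη + (ε + s) * h2, hγ', id, mul_add,
      mul_inv, mul_inv, ← mul_assoc, ← mul_assoc, mul_inv_cancel₀ hy, one_mul, one_mul]
  have haff := affine_of_eqn (fun v : F => CharTwo.add_self_eq_zero v) Function.injective_id key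
  -- the affine bijection is linear
  let L : F → F := fun w => De.symm w + De.symm 0
  have hL : ∀ v w, L (v + w) = L v + L w := fun v w => by
    linear_combination (haff v w).1
  have hT : ∀ w, w * (L w + s) = (p (De.symm w))⁻¹ + (p (De.symm 0))⁻¹ := fun w => by
    have := key 0 w
    rw [zero_add, id] at this
    exact this.trans (add_comm _ _)
  have hlin : ∀ w, L w = L 1 * w := by
    intro w
    have h4 := (haff 1 w).2
    have h5 := hT (1 + w)
    rw [hL] at h5
    linear_combination h5 + h4 - hT 1 - hT w + (-(w * L 1)) * h2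
  have ha : L 1 ≠ 0 := fun z => one_ne_zero (α := F) (De.symm.injective (CharTwo.add_eq_zero.1 z))
  have hP : ∀ w, (p (De.symm 0))⁻¹ + L 1 * w * w + s * w = (p (De.symm w))⁻¹ := fun w => by
    have := hT w
    rw [hlin] at this
    linear_combination this + (p (De.symm 0))⁻¹ * h2
  refine ⟨L 1, De.symm 0, (p (De.symm 0))⁻¹, ha, fun w => by
    rw [hP]; exact inv_ne_zero (hp0 _), fun w => ?_⟩
  have hw : L 1 * w + De.symm 0 = De.symm w := by
    rw [← hlin]
    linear_combination De.symm 0 * h2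
  rw [hP, hw, hφ, smul_add, ← mul_smul, ← mul_smul, inv_mul_cancel₀ (hp0 _), one_smul]
  congr 2
  rw [inv_mul_eq_div]
  exact De.apply_symm_apply w

/-- A row is given by an endomorphism with irreducible quadratic equation. -/
theorem exists_rowMap (hcard : Nat.card E = Fintype.card F ^ 2) {X : E} (hX : X ≠ 0) {φ : F → E}
    {s : F} (e : REqn X φ s) :
    ∃ (J : E →ₗ[F] E) (N : F), (∀ ε, J (φ ε) + ε • φ ε = X) ∧
      (∀ v, J (J v) = s • J v + N • v) ∧ (∀ r, r * r ≠ s * r + N) ∧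
      ∀ Y : E, (∀ c : F, c • X ≠ Y) → ∃ (ε : F) (c : F), φ ε = c • Y := by
  classical
  have h2 := CharTwo.two_eq_zero (R := F)
  obtain ⟨Y, hY⟩ : ∃ Y : E, ∀ c : F, c • X ≠ Y := by
    by_contra! hall
    have := Nat.card_le_card_of_surjective (fun c : F => c • X) fun v => hall v
    rw [hcard, Nat.card_eq_fintype_card, sq] at this
    have := Fintype.one_lt_card (α := F)
    nlinarith
  obtain ⟨a, e₀, P₀, ha, hP, hrow⟩ := exists_row_coords hcard hX hY e
  let cE : F × F →ₗ[F] E := (LinearMap.toSpanSingleton F E X).coprod (LinearMap.toSpanSingleton F E Y)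
  have hcE : ∀ p, cE p = p.1 • X + p.2 • Y := fun p => by simp [cE]
  have hc : Function.Bijective cE := (Nat.bijective_iff_injective_and_card cE).2
    ⟨fun p p' h => pair_injective hX hY (by simpa [hcE] using h),
      by rw [Nat.card_prod, Nat.card_eq_fintype_card, hcard, sq]⟩
  let ce := LinearEquiv.ofBijective cE hc
  let M : F × F →ₗ[F] F × F :=
    ((s + e₀) • LinearMap.fst F F F + P₀ • LinearMap.snd F F F).prod
      (a • LinearMap.fst F F F + e₀ • LinearMap.snd F F F)
  let J : E →ₗ[F] E := ce.toLinearMap.comp (M.comp ce.symm.toLinearMap)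
  have hJ : ∀ x y : F, J (x • X + y • Y) =
      ((s + e₀) * x + P₀ * y) • X + (a * x + e₀ * y) • Y := fun x y => by
    have hs' : ce.symm (x • X + y • Y) = (x, y) := by
      rw [LinearEquiv.symm_apply_eq]
      exact (hcE (x, y)).symm
    show ce (M (ce.symm _)) = _
    rw [hs']
    exact hcE _
  refine ⟨J, (s + e₀) * e₀ + a * P₀, fun ε => ?_, fun v => ?_, fun r hr => ?_, fun Y' hY' => ?_⟩
  · have h3 := hrow ((ε + e₀) / a)
    rw [show a * ((ε + e₀) / a) + e₀ = ε by field_simp; linear_combination e₀ * h2] at h3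
    have hε : ε = a * ((ε + e₀) / a) + e₀ := by field_simp; linear_combination -e₀ * h2
    generalize (ε + e₀) / a = w at h3 hε
    have hPw := hP w
    generalize hPe : P₀ + a * w * w + s * w = Pw at h3 hPw
    have hφ : φ ε = (Pw⁻¹ * w) • X + Pw⁻¹ • Y := by
      rw [mul_smul, ← smul_add, ← h3, ← mul_smul, inv_mul_cancel₀ hPw, one_smul]
    rw [hφ, hJ, smul_add, ← mul_smul, ← mul_smul]
    have c1 : (s + e₀) * (Pw⁻¹ * w) + P₀ * Pw⁻¹ + ε * (Pw⁻¹ * w) = 1 := by
      rw [← inv_mul_cancel₀ hPw, hε]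
      linear_combination Pw⁻¹ * hPe + (Pw⁻¹ * e₀ * w) * h2
    have c2 : a * (Pw⁻¹ * w) + e₀ * Pw⁻¹ + ε * Pw⁻¹ = 0 := by
      rw [hε]; linear_combination (Pw⁻¹ * (a * w + e₀)) * h2
    calc _ = ((s + e₀) * (Pw⁻¹ * w) + P₀ * Pw⁻¹ + ε * (Pw⁻¹ * w)) • X +
        (a * (Pw⁻¹ * w) + e₀ * Pw⁻¹ + ε * Pw⁻¹) • Y := by module
      _ = X := by rw [c1, c2, one_smul, zero_smul, add_zero]
  · obtain ⟨⟨x, y⟩, rfl⟩ := hc.2 v
    rw [hcE, hJ, hJ, smul_add, smul_add, ← mul_smul, ← mul_smul, ← mul_smul, ← mul_smul]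
    rw [add_add_add_comm, ← add_smul, ← add_smul]
    congr 2
    · linear_combination (e₀ * P₀ * y) * h2
    · linear_combination (a * e₀ * x - s * e₀ * y) * h2
  · refine hP ((r + e₀) / a) ?_
    field_simp
    linear_combination hr + (s * r + s * e₀ + e₀ * e₀ + a * P₀ + e₀ * r) * h2
  · obtain ⟨a', e₀', P₀', -, hP', hrow'⟩ := exists_row_coords hcard hX hY' e
    refine ⟨e₀', P₀'⁻¹, ?_⟩
    have h3 := hrow' 0
    simp only [mul_zero, zero_add, add_zero, zero_smul] at h3
    have h0 : P₀' ≠ 0 := by simpa using hP' 0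
    rw [← h3, ← mul_smul, inv_mul_cancel₀ h0, one_smul]

end Cfsg.Agent.H36.RankOneU3
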