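import Cfsg.Agent.H36.RankOneU3.Edge
import Mathlib.Algebra.CharP.Lemmas
import Mathlib.Algebra.Module.ZMod
import Mathlib.Algebra.Polynomial.Roots
import Mathlib.LinearAlgebra.Basis.VectorSpace

/-!
# A semiregular multiplicative action on an elementary abelian group of order `q ^ 2`

If the multiplicative monoid of a field of `q` elements acts semiregularly, the group is the sum of
two invariant subgroups of order `q`.
-/

set_option autoImplicit false

namespace Cfsg.Agent.H36.RankOneU3

open Polynomial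

variable {F E : Type*} [Field F] [Fintype F] [CharP F 2] [AddCommGroup E] [Finite E]

/-- A finite domain in which `r ^ q = r` has at most `q` elements. -/
theorem card_le_of_pow_eq {R : Type*} [CommRing R] [IsDomain R] [Finite R] {q : ℕ} (hq : 1 < q)
    (h : ∀ r : R, r ^ q = r) : Nat.card R ≤ q := by
  classical
  have := Fintype.ofFinite R
  have hdeg : (X ^ q - X : R[X]).natDegree = q := by
    rw [natDegree_sub_eq_left_of_natDegree_lt (by simpa [natDegree_X_pow] using hq), natDegree_X_pow]
  have hp : (X ^ q - X : R[X]) ≠ 0 := fun e => by simp [e] at hdeg; omega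
  have hsub : (Finset.univ : Finset R) ⊆ (X ^ q - X : R[X]).roots.toFinset := fun r _ => by
    rw [Multiset.mem_toFinset, mem_roots hp, IsRoot.def, eval_sub, eval_pow, eval_X, h r, sub_self]
  have hle := (Finset.card_le_card hsub).trans
    ((Multiset.toFinset_card_le _).trans (card_roots' _))
  rw [Finset.card_univ, hdeg] at hle
  rwa [Nat.card_eq_fintype_card]

/-- A semiregular action of the multiplicative monoid of `F` on an elementary abelian two-group. -/
structure IsOp (μ : F → E →+ E) : Prop where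
  zero : ∀ v, μ 0 v = 0
  one : ∀ v, μ 1 v = v
  mul : ∀ a b v, μ (a * b) v = μ a (μ b v)
  free : ∀ a v, μ a v = v → v ≠ 0 → a = 1
  two : ∀ v : E, v + v = 0
  card_field : 4 ≤ Fintype.card F
  card : Nat.card E = Fintype.card F ^ 2

variable {μ : F → E →+ E}

namespace IsOp

variable (h : IsOp μ)
include h

omit [CharP F 2] [Finite E] in
theorem cancel {a : F} (ha : a ≠ 0) (v : E) : μ a⁻¹ (μ a v) = v := by
  rw [← h.mul, inv_mul_cancel₀ ha, h.one]

omit [CharP F 2] [Finite E] in
theorem inj {a : F} (ha : a ≠ 0) : Function.Injective (μ a) := fun u v e => by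
  rw [← h.cancel ha u, e, h.cancel ha]

omit [CharP F 2] [Finite E] in
theorem orbit_injective {v : E} (hv : v ≠ 0) : Function.Injective fun a => μ a v := by
  intro a b e
  replace e : μ a v = μ b v := e
  by_cases hb : b = 0
  · subst hb
    by_contra ha
    rw [h.zero] at e
    exact hv (h.inj ha (e.trans (map_zero _).symm))
  · have := h.free (b⁻¹ * a) v (by rw [h.mul, e, h.cancel hb]) hv
    field_simp at this
    exact this

omit [CharP F 2] [Finite E] in
theorem sum_eq_zero [DecidableEq F] (v : E) :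
    ∑ b ∈ (Finset.univ : Finset F).erase 0, μ b v = 0 := by
  obtain ⟨c, -, hc⟩ := Finset.exists_mem_notMem_of_card_lt_card
    (s := ({0, 1} : Finset F)) (t := Finset.univ)
    (lt_of_le_of_lt Finset.card_le_two (by rw [Finset.card_univ]; have := h.card_field; omega))
  simp only [Finset.mem_insert, Finset.mem_singleton, not_or] at hc
  by_contra hne
  refine hc.2 (h.free c _ ?_ hne)
  rw [map_sum]
  refine Finset.sum_nbij' (fun b => c * b) (fun b => c⁻¹ * b) ?_ ?_ ?_ ?_ ?_ <;>
    intro b hb <;> simp_all [← h.mul]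

omit [CharP F 2] in
/-- An invariant subgroup of order `q` is a single orbit and zero. -/
theorem orbit_surjective {W : AddSubgroup E} (hW : Nat.card W = Fintype.card F)
    (hinv : ∀ a, ∀ v ∈ W, μ a v ∈ W) {v : E} (hv : v ∈ W) (hv0 : v ≠ 0) {w : E} (hw : w ∈ W) :
    ∃ a, μ a v = w := by
  let e : F → W := fun a => ⟨μ a v, hinv a v hv⟩
  have he : Function.Bijective e :=
    (Nat.bijective_iff_injective_and_card e).2
      ⟨fun a b x => h.orbit_injective hv0 (congrArg Subtype.val x),
        by rw [hW, Nat.card_eq_fintype_card]⟩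
  obtain ⟨a, ha⟩ := he.2 ⟨w, hw⟩
  exact ⟨a, congrArg Subtype.val ha⟩

/-- There is an invariant subgroup of order `q`. -/
theorem exists_invariant :
    ∃ W : AddSubgroup E, Nat.card W = Fintype.card F ∧ ∀ a, ∀ v ∈ W, μ a v ∈ W := by
  classical
  have hnt : Nontrivial E := by
    rw [← Finite.one_lt_card_iff_nontrivial, h.card]
    exact Nat.one_lt_pow two_ne_zero (by have := h.card_field; omega)
  obtain ⟨W, ⟨hW0, hinv⟩, hmin⟩ := WellFounded.has_min wellFounded_lt
    {U : AddSubgroup E | U ≠ ⊥ ∧ ∀ a, ∀ v ∈ U, μ a v ∈ U}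
    ⟨⊤, fun e => bot_ne_top e.symm, fun _ _ _ => AddSubgroup.mem_top _⟩
  obtain ⟨w₀, hw₀, hw0⟩ : ∃ w ∈ W, w ≠ 0 := by
    by_contra! hc
    exact hW0 (eq_bot_iff.2 fun x hx => AddSubgroup.mem_bot.2 (hc x hx))
  let opn : F → AddMonoid.End W := fun a =>
    AddMonoidHom.mk' (fun v => ⟨μ a v, hinv a v v.2⟩) fun u v => Subtype.ext (map_add _ _ _)
  have hop : ∀ a b, opn a * opn b = opn (a * b) := fun a b =>
    AddMonoidHom.ext fun v => Subtype.ext (h.mul a b v).symm
  let R : Subring (AddMonoid.End W) := Subring.closure (Set.range opn)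
  have hcomm := Subring.isMulCommutative_closure (s := Set.range opn) (by
    rintro _ ⟨a, rfl⟩ _ ⟨b, rfl⟩
    rw [hop, hop, mul_comm])
  let _ : CommRing R :=
    { (inferInstance : Ring R) with mul_comm := fun x y => hcomm.is_comm.comm x y }
  have hopR : ∀ a, opn a ∈ R := fun a => Subring.subset_closure ⟨a, rfl⟩
  let w₁ : W := ⟨w₀, hw₀⟩
  have hw1 : w₁ ≠ 0 := fun e => hw0 (congrArg Subtype.val e)
  let ev : R →+ W := AddMonoidHom.mk' (fun r => (r : AddMonoid.End W) w₁) fun r r' => rfl
  -- an element killing a non-zero vector is zero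
  have hker : ∀ r : R, ∀ v : W, v ≠ 0 → (r : AddMonoid.End W) v = 0 → r = 0 := by
    intro r v hv0 hv
    let U : AddSubgroup E :=
      ((r : AddMonoid.End W) : W →+ W).ker.map W.subtype
    have hU : U = W := by
      refine eq_of_le_of_not_lt (AddSubgroup.map_subtype_le _) fun hlt => hmin U ⟨?_, ?_⟩ hlt
      · intro e
        have hm : (v : E) ∈ U := ⟨v, hv, rfl⟩
        rw [e, AddSubgroup.mem_bot] at hm
        exact hv0 (Subtype.ext hm)
      · rintro a _ ⟨u, hu, rfl⟩
        refine ⟨opn a u, ?_, rfl⟩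
        have hc : r * ⟨opn a, hopR a⟩ = ⟨opn a, hopR a⟩ * r := mul_comm _ _
        exact (DFunLike.congr_fun (congrArg Subtype.val hc) u).trans
          ((congrArg (opn a) hu).trans (map_zero _))
    refine Subtype.ext (AddMonoidHom.ext fun u => ?_)
    have hu : (u : E) ∈ U := by rw [hU]; exact u.2
    obtain ⟨u', hu', e⟩ := hu
    obtain rfl : u' = u := Subtype.ext e
    exact hu'
  have hev : Function.Bijective ev := by
    constructor
    · rw [injective_iff_map_eq_zero]
      exact fun r hr => hker r w₁ hw1 hr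
    · let U : AddSubgroup E := ev.range.map W.subtype
      have hU : U = W := by
        refine eq_of_le_of_not_lt (AddSubgroup.map_subtype_le _) fun hlt => hmin U ⟨?_, ?_⟩ hlt
        · intro e
          have hm : w₀ ∈ U := ⟨w₁, ⟨1, rfl⟩, rfl⟩
          rw [e, AddSubgroup.mem_bot] at hm
          exact hw0 hm
        · rintro a _ ⟨_, ⟨r, rfl⟩, rfl⟩
          exact ⟨opn a (ev r), ⟨⟨opn a, hopR a⟩ * r, rfl⟩, rfl⟩
      intro u
      have hu : (u : E) ∈ U := by rw [hU]; exact u.2
      obtain ⟨u', ⟨r, rfl⟩, e⟩ := hu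
      exact ⟨r, Subtype.ext e⟩
  have h10 : (1 : R) ≠ 0 := fun e => hw1 (DFunLike.congr_fun (congrArg Subtype.val e) w₁)
  have h20 : (2 : R) = 0 := by
    rw [← one_add_one_eq_two]
    exact Subtype.ext (AddMonoidHom.ext fun u => Subtype.ext (h.two (u : E)))
  have : CharP R 2 := CharTwo.of_one_ne_zero_of_two_eq_zero h10 h20
  have : Nontrivial R := ⟨⟨1, 0, h10⟩⟩
  have : NoZeroDivisors R := ⟨fun {x y} hxy => by
    by_cases hy : ev y = 0
    · exact Or.inr (hev.1 (hy.trans (map_zero _).symm))
    · exact Or.inl (hker x _ hy (DFunLike.congr_fun (congrArg Subtype.val hxy) w₁))⟩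
  have : IsDomain R := NoZeroDivisors.to_isDomain R
  obtain ⟨m, -, hm⟩ := FiniteField.card F 2
  set q := Fintype.card F with hq
  have hpow : ∀ r : R, r ^ q = r := by
    have hgen : ∀ a : F, ∀ n : ℕ, opn a ^ n = opn (a ^ n) := fun a n => by
      induction n with
      | zero =>
        rw [pow_zero, pow_zero]
        exact AddMonoidHom.ext fun v => Subtype.ext (h.one (v : E)).symm
      | succ n ih => rw [pow_succ, ih, hop, ← pow_succ]
    rintro ⟨r, hr⟩
    rw [hm, ← iterateFrobenius_def (R := R) 2 m]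
    induction hr using Subring.closure_induction with
    | mem x hx =>
      obtain ⟨a, rfl⟩ := hx
      rw [iterateFrobenius_def]
      refine Subtype.ext ?_
      show opn a ^ (2 ^ (m : ℕ)) = opn a
      rw [hgen, ← hm, hq, FiniteField.pow_card]
    | zero => exact map_zero _
    | one => exact map_one _
    | add x y hx hy ihx ihy =>
      have := map_add (iterateFrobenius R 2 (m : ℕ)) ⟨x, hx⟩ ⟨y, hy⟩
      rwa [ihx, ihy] at this
    | neg x hx ihx =>
      have := map_neg (iterateFrobenius R 2 (m : ℕ)) ⟨x, hx⟩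
      rwa [ihx] at this
    | mul x y hx hy ihx ihy =>
      have := map_mul (iterateFrobenius R 2 (m : ℕ)) ⟨x, hx⟩ ⟨y, hy⟩
      rwa [ihx, ihy] at this
  refine ⟨W, le_antisymm ?_ ?_, hinv⟩
  · have : Finite R := Finite.of_injective ev hev.1
    have := Fintype.ofFinite R
    rw [← Nat.card_congr (Equiv.ofBijective ev hev), Nat.card_eq_fintype_card]
    have hq1 : 1 < q := by have := h.card_field; omega
    rw [← Nat.card_eq_fintype_card]
    exact card_le_of_pow_eq hq1 hpow
  · rw [hq, ← Nat.card_eq_fintype_card]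
    exact Nat.card_le_card_of_injective (fun a => (⟨μ a w₀, hinv a _ hw₀⟩ : W))
      fun a b e => h.orbit_injective hw0 (congrArg Subtype.val e)

omit [Finite E] in
/-- A complement to an invariant subgroup: an equivariant projection. -/
theorem exists_proj {W : AddSubgroup E} (hinv : ∀ a, ∀ v ∈ W, μ a v ∈ W) :
    ∃ π : E →+ E, (∀ v, π v ∈ W) ∧ (∀ v ∈ W, π v = v) ∧ ∀ a v, π (μ a v) = μ a (π v) := by
  classical
  let _ : Module (ZMod 2) E := AddCommGroup.zmodModule fun v => by rw [two_nsmul]; exact h.two v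
  let S : Submodule (ZMod 2) E := AddSubgroup.toZModSubmodule 2 W
  obtain ⟨p, hp⟩ := S.subtype.exists_leftInverse_of_injective (LinearMap.ker_eq_bot.2 S.injective_subtype)
  let p₀ : E →+ E := (S.subtype.comp p).toAddMonoidHom
  have hp₀ : ∀ v, p₀ v ∈ W := fun v => (p v).2
  have hpW : ∀ v ∈ W, p₀ v = v := fun v hv =>
    congrArg Subtype.val (LinearMap.congr_fun hp (⟨v, hv⟩ : S))
  let π : E →+ E := ∑ b ∈ (Finset.univ : Finset F).erase 0, (μ b).comp (p₀.comp (μ b⁻¹))
  have hπ : ∀ v, π v = ∑ b ∈ (Finset.univ : Finset F).erase 0, μ b (p₀ (μ b⁻¹ v)) := fun v => by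
    simp [π]
  refine ⟨π, fun v => ?_, fun v hv => ?_, fun a v => ?_⟩
  · rw [hπ]
    exact sum_mem fun b _ => hinv b _ (hp₀ _)
  · rw [hπ, Finset.sum_congr rfl (g := fun _ => v) fun b hb => by
      rw [hpW _ (hinv _ v hv), ← h.mul, mul_inv_cancel₀ (Finset.ne_of_mem_erase hb), h.one]]
    rw [Finset.sum_const, Finset.card_erase_of_mem (Finset.mem_univ _), Finset.card_univ]
    obtain ⟨m, -, hm⟩ := FiniteField.card F 2
    obtain ⟨c, hc⟩ : Odd (Fintype.card F - 1) :=
      Nat.Even.sub_odd Fintype.card_pos (by rw [hm]; exact Nat.even_pow.2 ⟨even_two, m.ne_zero⟩) odd_one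
    rw [hc, add_nsmul, mul_nsmul, one_nsmul, two_nsmul, h.two]
    simp
  · rw [hπ, hπ, map_sum]
    by_cases ha : a = 0
    · subst ha
      simp [h.zero]
    refine Finset.sum_nbij' (fun b => a⁻¹ * b) (fun b => a * b) ?_ ?_ ?_ ?_ ?_ <;>
      intro b hb <;> simp_all [← h.mul, mul_comm b⁻¹ a]

end IsOp

end Cfsg.Agent.H36.RankOneU3
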