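import Cfsg.Agent.H36.RankOneU3.Center
import Cfsg.Agent.H36.RankOneU3.Product
import Cfsg.Agent.H99.RankOne.UnitaryModel
import Mathlib.GroupTheory.QuotientGroup.Basic

/-!
# Recognition of `PSU₃(q)`: a rank-one set-up with `|Q| = q ^ 3`

`closure_iso_psu`: under faithfulness, two commuting involutions, `|Q| = q ^ 3`, exponent at most four
and `r = s` in the structure equation, the group generated by `Q` and `t` is `PSU₃(q)`.
-/

set_option autoImplicit false
set_option linter.unusedSectionVars false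
set_option linter.unusedSimpArgs false

namespace Cfsg.Agent.H36.RankOneU3

open MulAction

variable {G Ω : Type*} [Group G] [Finite G] [MulAction G Ω] [FaithfulSMul G Ω] {a : Ω} {t : G}
  {Q : Subgroup G}

section Forms

variable (hS : Cfsg.IsRankOneSetup G Ω a t Q)
include hS

open Classical in
/-- The three components of `t x t`, trivial at one. -/
noncomputable def form (x : Q) : Q × ↥(stabilizer G a ⊓ stabilizer G (t • a)) × Q :=
  if hx : (x : G) = 1 then (1, 1, 1) else
    let h := exists_form hS x.2 hx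
    (⟨h.choose, h.choose_spec.choose_spec.choose_spec.1⟩,
      ⟨h.choose_spec.choose, h.choose_spec.choose_spec.choose_spec.2.1⟩,
      ⟨h.choose_spec.choose_spec.choose, h.choose_spec.choose_spec.choose_spec.2.2.1⟩)

theorem form_spec {x : Q} (hx : x ≠ 1) :
    IsForm a t Q (x : G) (form hS x).1 (form hS x).2.1 (form hS x).2.2 := by
  have hx' : (x : G) ≠ 1 := fun e => hx (Subtype.ext e)
  rw [form, dif_neg hx']
  exact (exists_form hS x.2 hx').choose_spec.choose_spec.choose_spec

theorem form_eq {x : Q} (hx : x ≠ 1) {f k g : G} (h : IsForm a t Q (x : G) f k g) :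
    ((form hS x).1 : G) = f ∧ ((form hS x).2.1 : G) = k ∧ ((form hS x).2.2 : G) = g :=
  form_unique hS (form_spec hS hx) h

/-- The point map. -/
noncomputable def fQ (x : Q) : Q := (form hS x).1

theorem fQ_ne {x : Q} (hx : x ≠ 1) : fQ hS x ≠ 1 := by
  intro e
  obtain ⟨hf, hk, hg, e'⟩ := form_spec hS hx
  change ((form hS x).1 : Q) = 1 at e
  rw [e, Subgroup.coe_one, one_mul] at e'
  have h := congrArg (t • ·) (congrArg (· • a) e')
  simp only [mul_smul, H38.t_smul_t_smul hS, H38.Q_fix hS hg, (H38.mem_D_iff.1 hk).2] at h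
  exact H38.t_smul_ne hS (smul_left_cancel (x : G) (h.trans (H38.Q_fix hS x.2).symm))

theorem fQ_fQ {x : Q} (hx : x ≠ 1) : fQ hS (fQ hS x) = x ∧
    ((form hS (fQ hS x)).2.1 : G) = ((form hS x).2.1 : G)⁻¹ := by
  have h := form_eq hS (fQ_ne hS hx) ((form_spec hS hx).point hS x.2)
  exact ⟨Subtype.ext h.1, h.2.1⟩

theorem inv_fQ_inv {x : Q} (hx : x ≠ 1) : ((fQ hS x⁻¹)⁻¹ : Q) = (form hS x).2.2 := by
  have h := form_eq hS (inv_ne_one.2 hx) (show IsForm a t Q ((x⁻¹ : Q) : G) _ _ _ from
    (form_spec hS hx).inv hS)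
  refine Subtype.ext ?_
  rw [Subgroup.coe_inv, show ((fQ hS x⁻¹ : Q) : G) = _ from h.1, inv_inv]

/-- Conjugation by an element of the point stabiliser. -/
noncomputable def cQ : stabilizer G a →* MulAut Q :=
  MonoidHom.mk' (fun d =>
    { toFun := fun x => ⟨d * x * (d : G)⁻¹, hS.conj_mem d d.2 x x.2⟩
      invFun := fun x => ⟨(d : G)⁻¹ * x * d, by
        simpa using hS.conj_mem _ (inv_mem d.2) x x.2⟩
      left_inv := fun x => Subtype.ext (by simp [mul_assoc])
      right_inv := fun x => Subtype.ext (by simp [mul_assoc])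
      map_mul' := fun x y => Subtype.ext (by simp [mul_assoc]) })
    fun d e => MulEquiv.ext fun x => Subtype.ext (by simp [mul_assoc])

theorem coe_cQ (d : stabilizer G a) (x : Q) : ((cQ hS d x : Q) : G) = d * x * (d : G)⁻¹ := rfl

theorem fQ_conj {x : Q} (hx : x ≠ 1) {d : G} (hd : d ∈ stabilizer G a ⊓ stabilizer G (t • a)) :
    fQ hS (cQ hS ⟨d, hd.1⟩ x) = cQ hS ⟨t * d * t, (conj_t_mem hS hd).1⟩ (fQ hS x) ∧
      ((form hS (cQ hS ⟨d, hd.1⟩ x)).2.1 : G) = t * d * t * (form hS x).2.1 * d⁻¹ := by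
  have hne : cQ hS ⟨d, hd.1⟩ x ≠ 1 := by simpa using hx
  have h := form_eq hS hne (show IsForm a t Q ((cQ hS ⟨d, hd.1⟩ x : Q) : G) _ _ _ from
    (form_spec hS hx).conj hS hd)
  exact ⟨Subtype.ext h.1, h.2.1⟩

theorem fQ_mul {x y : Q} (hx : x ≠ 1) (hy : y ≠ 1) (hxy : x * y ≠ 1) :
    (fQ hS x⁻¹)⁻¹ * fQ hS y ≠ 1 ∧
      fQ hS (x * y) = fQ hS x *
        cQ hS ⟨((form hS x).2.1 : G), (form hS x).2.1.2.1⟩ (fQ hS ((fQ hS x⁻¹)⁻¹ * fQ hS y)) := by
  rw [inv_fQ_inv hS hx]
  have hne : (form hS x).2.2 * fQ hS y ≠ 1 := fun e => (form_spec hS hx).ne_one hS x.2 y.2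
    (fun e' => hxy (Subtype.ext e')) (form_spec hS hy) (congrArg Subtype.val e)
  exact ⟨hne, Subtype.ext (form_eq hS hxy (show IsForm a t Q ((x * y : Q) : G) _ _ _ from
    (form_spec hS hx).mul hS (form_spec hS hy) (form_spec hS hne))).1⟩

end Forms

section Build

variable (hS : Cfsg.IsRankOneSetup G Ω a t Q) {F : Type} [Field F] [Fintype F] [CharP F 2]
  (T : Torus a t Q F) (hsq : ∀ x ∈ Q, (x * x) * (x * x) = 1)

/-- The coordinate on the centre, in `Q`. -/
def zQ (r : F) : Q := ⟨T.ι r, T.ι_mem r⟩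

/-- The central subgroup. -/
def zSub : Subgroup Q where
  carrier := Set.range (zQ T)
  one_mem' := ⟨0, Subtype.ext (by
    have h := T.ι_add 0 0
    rw [add_zero, left_eq_mul] at h
    exact h)⟩
  mul_mem' := by
    rintro _ _ ⟨x, rfl⟩ ⟨y, rfl⟩
    exact ⟨x + y, Subtype.ext (T.ι_add x y)⟩
  inv_mem' := by
    rintro _ ⟨x, rfl⟩
    refine ⟨x, eq_inv_of_mul_eq_one_left (Subtype.ext ?_)⟩
    show T.ι x * T.ι x = 1
    rw [← T.ι_add, CharTwo.add_self_eq_zero]
    have h := T.ι_add 0 0
    rw [add_zero, left_eq_mul] at h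
    exact h

theorem zQ_comm (r : F) (x : Q) : zQ T r * x = x * zQ T r := Subtype.ext (T.ι_comm r x x.2)

instance : (zSub T).Normal :=
  ⟨fun z hz x => by
    obtain ⟨r, rfl⟩ := hz
    exact ⟨r, by rw [← zQ_comm T r x, mul_inv_cancel_right]⟩⟩

theorem mem_zSub {x : Q} : x ∈ zSub T ↔ x * x = 1 := by
  refine ⟨?_, fun h => ?_⟩
  · rintro ⟨r, rfl⟩
    have := (zSub T).mul_mem ⟨r, rfl⟩ ⟨r, rfl⟩
    exact Subtype.ext (by
      show T.ι r * T.ι r = 1
      rw [← T.ι_add, CharTwo.add_self_eq_zero]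
      have h := T.ι_add 0 0
      rw [add_zero, left_eq_mul] at h
      exact h)
  · obtain ⟨r, hr⟩ := T.ι_range x x.2 (congrArg Subtype.val h)
    exact ⟨r, Subtype.ext hr⟩

/-- Conjugation on the quotient. -/
noncomputable def cE (d : stabilizer G a) :
    Additive (Q ⧸ zSub T) →+ Additive (Q ⧸ zSub T) :=
  MonoidHom.toAdditive (QuotientGroup.map (zSub T) (zSub T) (cQ hS d).toMonoidHom fun x hx => by
    rw [mem_zSub] at hx
    show cQ hS d x ∈ zSub T
    rw [mem_zSub, ← map_mul, hx, map_one])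

theorem cE_mk (d : stabilizer G a) (x : Q) :
    cE hS T d (Additive.ofMul (QuotientGroup.mk x)) =
      Additive.ofMul (QuotientGroup.mk (cQ hS d x)) := rfl

theorem exists_mk (v : Additive (Q ⧸ zSub T)) :
    ∃ x : Q, Additive.ofMul (QuotientGroup.mk x) = v := by
  obtain ⟨x, hx⟩ := QuotientGroup.mk_surjective (Additive.toMul v)
  exact ⟨x, congrArg Additive.ofMul hx⟩

theorem cE_mul (d e : stabilizer G a) (v : Additive (Q ⧸ zSub T)) :
    cE hS T (d * e) v = cE hS T d (cE hS T e v) := by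
  obtain ⟨x, rfl⟩ := exists_mk T v
  show Additive.ofMul (QuotientGroup.mk (cQ hS (d * e) x)) = Additive.ofMul (QuotientGroup.mk _)
  rw [map_mul]; rfl

theorem cE_one (v : Additive (Q ⧸ zSub T)) : cE hS T 1 v = v := by
  obtain ⟨x, rfl⟩ := exists_mk T v
  show Additive.ofMul (QuotientGroup.mk (cQ hS 1 x)) = Additive.ofMul (QuotientGroup.mk _)
  rw [map_one]; rfl

/-- The inverted element of a scalar, in the point stabiliser. -/
def kap (u : Fˣ) : stabilizer G a := ⟨T.κ u, (T.κ_mem u).1⟩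

theorem cQ_kap (u : Fˣ) (r : F) : cQ hS (kap T u) (zQ T r) = zQ T ((u : F) * r) :=
  Subtype.ext (T.κ_conj u r)

theorem kap_mul (u w : Fˣ) : kap T (u * w) = kap T u * kap T w := Subtype.ext (map_mul T.κ u w)

include hS T hsq in
/-- The coordinates of a rank-one set-up with `|Q| = q ^ 3`. -/
theorem exists_coords_setup (hq : 4 ≤ Fintype.card F)
    (hcard : Nat.card Q = Fintype.card F ^ 3) :
    ∃ (K : Type) (_ : Field K) (_ : Fintype K), Fintype.card K = Fintype.card F ^ 2 ∧
      ∃ c : Q → K × K, Function.Injective c ∧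
        (∀ x, (c x).2 + (c x).2 ^ Fintype.card F + (c x).1 * (c x).1 ^ Fintype.card F = 0) ∧
        (∀ p : K × K, p.2 + p.2 ^ Fintype.card F + p.1 * p.1 ^ Fintype.card F = 0 → ∃ x, c x = p) ∧
        (∀ x y, c (x * y) = ((c x).1 + (c y).1,
          (c x).2 + (c y).2 - (c y).1 * (c x).1 ^ Fintype.card F)) ∧
        ∀ x, x ≠ 1 → c (fQ hS x) = (-((c x).1 / (c x).2), ((c x).2)⁻¹) := by
  classical
  have hexp : ∀ x : Q, x * x ∈ zSub T := fun x => (mem_zSub T).2 (Subtype.ext (hsq x x.2))
  have hq2 : ∀ v : Q ⧸ zSub T, v * v = 1 := fun v => by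
    refine QuotientGroup.induction_on v fun x => ?_
    rw [← QuotientGroup.mk_mul]
    exact (QuotientGroup.eq_one_iff _).2 (hexp x)
  let _ : CommGroup (Q ⧸ zSub T) :=
    { (inferInstance : Group (Q ⧸ zSub T)) with
      mul_comm := fun v w => by
        have h1 : ∀ u : Q ⧸ zSub T, u⁻¹ = u := fun u => inv_eq_of_mul_eq_one_right (hq2 u)
        rw [← h1 (v * w), mul_inv_rev, h1, h1] }
  let cls : Q → Additive (Q ⧸ zSub T) := fun x => Additive.ofMul (QuotientGroup.mk x)
  let μ : F → Additive (Q ⧸ zSub T) →+ Additive (Q ⧸ zSub T) := fun r =>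
    if h : r = 0 then 0 else cE hS T (kap T (Units.mk0 r h * Units.mk0 r h))
  let k : Q → Additive (Q ⧸ zSub T) →+ Additive (Q ⧸ zSub T) := fun x =>
    cE hS T ⟨((form hS x).2.1 : G), (form hS x).2.1.2.1⟩
  have hμu : ∀ (u : Fˣ) v, μ (u : F) v = cE hS T (kap T (u * u)) v := fun u v => by
    simp only [μ, dif_neg u.ne_zero]
    rw [show Units.mk0 (u : F) u.ne_zero = u from Units.ext rfl]
  have hz0 : zQ T 0 = 1 := by
    have h := T.ι_add 0 0
    rw [add_zero, left_eq_mul] at h
    exact Subtype.ext h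
  have hzinj : Function.Injective (zQ T) := fun r r' e => T.ι_inj (congrArg Subtype.val e)
  have hzne : ∀ r, r ≠ 0 → zQ T r ≠ 1 := fun r hr e => hr (hzinj (e.trans hz0.symm))
  have hsq' : ∀ x : Q, x * x = zQ T (Function.invFun (zQ T) (x * x)) := fun x =>
    (Function.invFun_eq (show ∃ r, zQ T r = x * x from hexp x)).symm
  have hcls0 : ∀ x : Q, cls x = 0 ↔ ∃ r, x = zQ T r := fun x => by
    show (QuotientGroup.mk x : Q ⧸ zSub T) = 1 ↔ _
    rw [QuotientGroup.eq_one_iff]
    exact ⟨fun ⟨r, hr⟩ => ⟨r, hr.symm⟩, fun ⟨r, hr⟩ => ⟨r, hr.symm⟩⟩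
  have hclsz : ∀ (x : Q) r, cls (x * zQ T r) = cls x := fun x r => by
    show (QuotientGroup.mk (x * zQ T r) : Q ⧸ zSub T) = QuotientGroup.mk x
    rw [QuotientGroup.mk_mul, (QuotientGroup.eq_one_iff _).2 (show zQ T r ∈ zSub T from ⟨r, rfl⟩),
      mul_one]
  -- the components at central elements
  have hform1 : IsForm a t Q (T.ι 1) (T.ι 1) 1 (T.ι 1) :=
    ⟨T.ι_mem 1, one_mem _, T.ι_mem 1, by rw [mul_one]; exact T.base⟩
  have hzform : ∀ u : Fˣ, fQ hS (zQ T (u : F)) = zQ T ((u : F))⁻¹ ∧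
      ((form hS (zQ T (u : F))).2.1 : G) = T.κ (u⁻¹ * u⁻¹) := by
    intro u
    have h := hform1.conj hS (T.κ_mem u)
    rw [T.κ_inv, T.κ_conj, ← map_inv, T.κ_conj, mul_one, mul_one, mul_one,
      ← map_mul] at h
    obtain ⟨h1, h2', -⟩ := form_eq hS (hzne _ u.ne_zero)
      (show IsForm a t Q ((zQ T (u : F) : Q) : G) _ _ _ from h)
    refine ⟨Subtype.ext (h1.trans ?_), h2'⟩
    rw [Units.val_inv_eq_inv_val]; rfl
  let S : Sys Q F (Additive (Q ⧸ zSub T)) :=
    { z := zQ T, cls := cls, sq := fun x => Function.invFun (zQ T) (x * x), μ := μ,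
      f := fQ hS, k := k }
  have L : S.Law := {
    op := {
      zero := fun v => by simp [S, μ]
      one := fun v => by
        show μ 1 v = v
        rw [show (1 : F) = ((1 : Fˣ) : F) from rfl, hμu, mul_one,
          show kap T (1 : Fˣ) = 1 from Subtype.ext (map_one T.κ), cE_one]
      mul := fun r r' v => by
        show μ (r * r') v = μ r (μ r' v)
        by_cases hr : r = 0
        · simp [μ, hr]
        by_cases hr' : r' = 0
        · simp [μ, hr']
        lift r to Fˣ using IsUnit.mk0 r hr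
        lift r' to Fˣ using IsUnit.mk0 r' hr'
        rw [← Units.val_mul, hμu, hμu, hμu, ← cE_mul, ← kap_mul,
          mul_mul_mul_comm r r' r r']
      free := fun r v he hv => by
        change μ r v = v at he
        by_cases hr : r = 0
        · simp [μ, hr] at he
          exact absurd he.symm hv
        lift r to Fˣ using IsUnit.mk0 r hr
        rw [hμu] at he
        by_contra hne
        obtain ⟨x, rfl⟩ : ∃ x : Q, cls x = v := by
          obtain ⟨x, hx⟩ := QuotientGroup.mk_surjective (Additive.toMul v)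
          exact ⟨x, congrArg Additive.ofMul hx⟩
        change cE hS T _ (Additive.ofMul _) = Additive.ofMul _ at he
        rw [cE_mk] at he
        obtain ⟨r', hr'⟩ : ∃ r', cQ hS (kap T (r * r)) x = x * zQ T r' := by
          have h1 : (QuotientGroup.mk (x⁻¹ * cQ hS (kap T (r * r)) x) : Q ⧸ zSub T) = 1 := by
            rw [QuotientGroup.mk_mul, QuotientGroup.mk_inv, Additive.ofMul.injective he,
              inv_mul_cancel]
          obtain ⟨r', hr'⟩ := (QuotientGroup.eq_one_iff _).1 h1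
          exact ⟨r', by rw [hr', mul_inv_cancel_left]⟩
        have hrr : ((r * r : Fˣ) : F) + 1 ≠ 0 := by
          intro e
          refine hne ?_
          rw [CharTwo.add_eq_zero, Units.val_mul] at e
          exact CharTwo.add_eq_zero.1 (mul_self_eq_zero.1 (by
            linear_combination e + ((r : F) + 1) * CharTwo.two_eq_zero (R := F)))
        set u := r' / (((r * r : Fˣ) : F) + 1) with hu
        refine hv ((hcls0 x).2 ⟨u, ?_⟩)
        have h1 : cQ hS (kap T (r * r)) (x * zQ T u) = x * zQ T u := by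
          rw [map_mul, hr', cQ_kap, mul_assoc]
          congr 1
          refine Subtype.ext ?_
          show T.ι r' * T.ι _ = T.ι u
          rw [← T.ι_add]
          congr 1
          rw [hu]; field_simp
          linear_combination (r' * ((r * r : Fˣ) : F)) * CharTwo.two_eq_zero (R := F)
        have hne' : r * r ≠ 1 := fun e => hrr (by
          rw [e, Units.val_one, CharTwo.add_self_eq_zero])
        have h2' := T.κ_free _ hne' _ (x * zQ T u).2 (congrArg Subtype.val h1)
        have h3 : x * zQ T u = 1 := Subtype.ext h2'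
        rw [eq_inv_of_mul_eq_one_left h3]
        exact inv_eq_of_mul_eq_one_right (Subtype.ext (by
          show T.ι u * T.ι u = 1
          rw [← T.ι_add, CharTwo.add_self_eq_zero]
          exact congrArg Subtype.val hz0))
      two := fun v => congrArg Additive.ofMul (hq2 (Additive.toMul v))
      card_field := hq
      card := by
        have h1 := Subgroup.card_eq_card_quotient_mul_card_subgroup (zSub T)
        have h2' : Nat.card (zSub T) = Fintype.card F := by
          rw [← Nat.card_eq_fintype_card]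
          exact (Nat.card_congr (Equiv.ofInjective _ hzinj)).symm
        rw [hcard, h2', pow_succ] at h1
        exact (Nat.eq_of_mul_eq_mul_right Fintype.card_pos h1).symm }
    z_add := fun r r' => Subtype.ext (T.ι_add r r')
    z_inj := hzinj
    z_comm := fun r x => zQ_comm T r x
    cls_mul := fun x y => rfl
    cls_surj := fun v => by
      obtain ⟨x, hx⟩ := QuotientGroup.mk_surjective (Additive.toMul v)
      exact ⟨x, congrArg Additive.ofMul hx⟩
    cls_eq_zero := hcls0
    mul_self := hsq'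
    sq_eq_zero := fun x hx => by
      refine (hcls0 x).2 ?_
      have h1 : x * x = 1 := by rw [hsq' x, show Function.invFun (zQ T) (x * x) = 0 from hx, hz0]
      obtain ⟨r, hr⟩ := (mem_zSub T).2 h1
      exact ⟨r, hr.symm⟩
    f_ne := fun x hx => fQ_ne hS hx
    f_f := fun x hx => (fQ_fQ hS hx).1
    f_z := fun r hr => by
      lift r to Fˣ using IsUnit.mk0 r hr
      exact (hzform r).1
    k_z := fun r hr v => by
      lift r to Fˣ using IsUnit.mk0 r hr
      show k _ v = μ _ v
      rw [← Units.val_inv_eq_inv_val, hμu]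
      exact congrArg (fun d => cE hS T d v) (Subtype.ext (hzform r).2)
    prod := fun x y hx hy hxy => by
      obtain ⟨h1, h3⟩ := fQ_mul hS hx hy hxy
      refine ⟨h1, ?_⟩
      show cls (fQ hS (x * y)) = _
      rw [h3]; rfl
    twist := fun x hx r hr => by
      have hx1 : x ≠ 1 := fun e => hx ((hcls0 x).2 ⟨0, e.trans hz0.symm⟩)
      show ∃ c, c ≠ 0 ∧ k (fQ hS x) (cls (fQ hS ((fQ hS (fQ hS x)⁻¹)⁻¹ * zQ T r))) =
        cls (fQ hS (fQ hS x⁻¹ * zQ T c))
      obtain ⟨-, hk⟩ := fQ_fQ hS hx1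
      have hD := (form hS x).2.1.2
      set kx : G := ((form hS x).2.1 : G)
      set d : stabilizer G a := ⟨t * kx * t, (conj_t_mem hS hD).1⟩
      have hzc : cQ hS d⁻¹ (zQ T r) * cQ hS d⁻¹ (zQ T r) = 1 := by
        rw [← map_mul, (mem_zSub T).1 ⟨r, rfl⟩, map_one]
      obtain ⟨c, hc⟩ := (mem_zSub T).2 hzc
      have hc0 : c ≠ 0 := fun e => hzne r hr (by
        rw [e, hz0] at hc
        simpa using hc.symm)
      refine ⟨c, hc0, ?_⟩
      have hw : fQ hS x⁻¹ * zQ T c ≠ 1 := fun e => by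
        have h1 : cls (fQ hS x⁻¹) = 0 := (hcls0 _).2 ⟨c, by
          rw [eq_inv_of_mul_eq_one_left e]
          exact inv_eq_of_mul_eq_one_right ((mem_zSub T).1 ⟨c, rfl⟩)⟩
        obtain ⟨c', hc'⟩ := (hcls0 _).1 h1
        have h2' := (fQ_fQ hS (inv_ne_one.2 hx1)).1
        rw [hc'] at h2'
        by_cases hc0' : c' = 0
        · exact fQ_ne hS (inv_ne_one.2 hx1) (by rw [hc', hc0', hz0])
        · lift c' to Fˣ using IsUnit.mk0 c' hc0'
          rw [(hzform c').1] at h2'
          refine hx ((hcls0 x).2 ⟨((c' : F))⁻¹, ?_⟩)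
          rw [← inv_inv x, ← h2']
          exact inv_eq_of_mul_eq_one_right ((mem_zSub T).1 ⟨_, rfl⟩)
      have hg : (fQ hS (fQ hS x)⁻¹)⁻¹ = cQ hS d (fQ hS x⁻¹) := by
        rw [inv_fQ_inv hS (fQ_ne hS hx1)]
        have h1 := (form_eq hS (fQ_ne hS hx1) ((form_spec hS hx1).point hS x.2)).2.2
        refine Subtype.ext (h1.trans ?_)
        rw [coe_cQ, show (fQ hS x⁻¹ : Q) = ((form hS x).2.2)⁻¹ by
          rw [← inv_fQ_inv hS hx1, inv_inv]]
        rfl
      rw [hg, show zQ T r = cQ hS d (zQ T c) by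
        rw [hc, ← MulAut.mul_apply, ← map_mul, mul_inv_cancel, map_one]; rfl, ← map_mul]
      have h4 := (fQ_conj hS hw (conj_t_mem hS hD)).1
      show cE hS T _ (cls (fQ hS (cQ hS d (fQ hS x⁻¹ * zQ T c)))) = _
      rw [h4]
      show cE hS T _ (Additive.ofMul _) = _
      rw [cE_mk, ← MulAut.mul_apply, ← map_mul]
      refine congrArg cls ?_
      rw [show ∀ e : stabilizer G a, e = 1 → ∀ w, cQ hS e w = w from fun e he w => by
        rw [he, map_one]; rfl]
      refine Subtype.ext ?_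
      show ((form hS (fQ hS x)).2.1 : G) * (t * (t * kx * t) * t) = 1
      rw [hk]
      simp [mul_assoc, ← mul_assoc t t, hS.mul_self, kx]
    scale := fun ρ hρ x hx => by
      lift ρ to Fˣ using IsUnit.mk0 ρ hρ
      refine ⟨cQ hS (kap T (ρ * ρ)) x, ?_, fun r => ?_⟩
      · show cls _ = μ _ (cls x)
        rw [hμu]; rfl
      · show cls (fQ hS (cQ hS (kap T (ρ * ρ)) x * zQ T _)) = μ _ (cls (fQ hS (x * zQ T r)))
        rw [← Units.val_mul, ← cQ_kap hS T, ← map_mul, ← Units.val_inv_eq_inv_val, hμu]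
        have hne : x * zQ T r ≠ 1 := fun e => hx (by
          show cls x = 0
          rw [← hclsz x r, e]; exact (hcls0 1).2 ⟨0, hz0.symm⟩)
        rw [show kap T (ρ * ρ) = ⟨T.κ (ρ * ρ), (T.κ_mem _).1⟩ from rfl,
          (fQ_conj hS hne (T.κ_mem _)).1]
        show cls _ = cE hS T _ (Additive.ofMul _)
        rw [cE_mk]
        refine congrArg (fun d => cls (cQ hS d _)) (Subtype.ext ?_)
        show t * T.κ (ρ * ρ) * t = T.κ (ρ⁻¹ * ρ⁻¹)
        rw [T.κ_inv, ← map_inv, mul_inv_rev]
    semi := fun x hx => by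
      set d := (form hS x).2.1 with hd
      have hdD := d.2
      set dd : stabilizer G a := ⟨(d : G), hdD.1⟩
      -- the action on the centre
      choose τ hτ using fun r : F => show ∃ r', zQ T r' = cQ hS dd (zQ T r) from
        (mem_zSub T).2 (by rw [← map_mul, (mem_zSub T).1 ⟨r, rfl⟩, map_one])
      choose σ₀ hσ₀ using T.κ_normal (d : G) hdD
      have hτadd : ∀ r r', τ (r + r') = τ r + τ r' := fun r r' => hzinj (by
        rw [hτ, show zQ T (τ r + τ r') = zQ T (τ r) * zQ T (τ r') from Subtype.ext (T.ι_add _ _),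
          hτ, hτ, ← map_mul, show zQ T (r + r') = zQ T r * zQ T r' from Subtype.ext (T.ι_add _ _)])
      have hdk : ∀ u : Fˣ, dd * kap T u = kap T (σ₀ u) * dd := fun u => Subtype.ext (by
        show (d : G) * T.κ u = T.κ (σ₀ u) * d
        rw [← hσ₀, inv_mul_cancel_right])
      have hτmul : ∀ (u : Fˣ) r, τ ((u : F) * r) = (σ₀ u : F) * τ r := fun u r => hzinj (by
        rw [hτ, ← cQ_kap hS T u r, ← MulAut.mul_apply, ← map_mul, hdk, map_mul, MulAut.mul_apply,
          ← hτ, cQ_kap])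
      have hc0 : τ 1 ≠ 0 := fun e => hzne 1 one_ne_zero (by
        have := hτ 1
        rw [e, hz0] at this
        simpa using this.symm)
      have hτ0 : τ 0 = 0 := by
        have := hτadd 0 0
        rw [add_zero, left_eq_add] at this
        exact this
      have hσu : ∀ u : Fˣ, τ (u : F) / τ 1 = σ₀ u := fun u => by
        rw [div_eq_iff hc0, ← hτmul, mul_one]
      let σ : F →+* F :=
        { toFun := fun r => τ r / τ 1
          map_one' := div_self hc0
          map_mul' := fun r r' => by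
            by_cases hr : r = 0
            · simp [hr, hτ0]
            · lift r to Fˣ using IsUnit.mk0 r hr
              rw [hσu, hτmul, mul_div_assoc]
          map_zero' := by rw [hτ0, zero_div]
          map_add' := fun r r' => by rw [hτadd, add_div] }
      refine ⟨σ, τ 1, fun r v => ?_, fun y y' hy => ?_, fun hinv r => ?_⟩
      · show cE hS T dd (μ r v) = μ (σ r) (cE hS T dd v)
        by_cases hr : r = 0
        · simp [hr, μ]
        lift r to Fˣ using IsUnit.mk0 r hr
        rw [show σ (r : F) = (σ₀ r : F) from hσu r, hμu, hμu, ← cE_mul, ← cE_mul]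
        congr 2
        rw [kap_mul, kap_mul, ← mul_assoc, hdk, mul_assoc, hdk, ← mul_assoc]
      · change cls y' = cE hS T dd (Additive.ofMul _) at hy
        rw [cE_mk] at hy
        have hm : (QuotientGroup.mk ((cQ hS dd y)⁻¹ * y') : Q ⧸ zSub T) = 1 := by
          rw [QuotientGroup.mk_mul, QuotientGroup.mk_inv, Additive.ofMul.injective hy, inv_mul_cancel]
        obtain ⟨e, he⟩ := (QuotientGroup.eq_one_iff _).1 hm
        show Function.invFun (zQ T) (y' * y') = τ 1 * (τ (Function.invFun (zQ T) (y * y)) / τ 1)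
        rw [mul_div_cancel₀ _ hc0]
        refine hzinj ?_
        rw [← hsq', hτ, ← hsq', map_mul, show y' = cQ hS dd y * zQ T e by
          rw [he, mul_inv_cancel_left]]
        calc cQ hS dd y * zQ T e * (cQ hS dd y * zQ T e)
            = cQ hS dd y * (zQ T e * cQ hS dd y) * zQ T e := by group
          _ = cQ hS dd y * cQ hS dd y * (zQ T e * zQ T e) := by rw [zQ_comm]; group
          _ = _ := by rw [(mem_zSub T).1 ⟨e, rfl⟩, mul_one]
      · by_cases hr : r = 0
        · rw [hr, map_zero]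
        lift r to Fˣ using IsUnit.mk0 r hr
        have hsig : σ₀ (σ₀ r) = r := Units.ext (by
          have h1 := hinv (r : F)
          rwa [show σ (r : F) = (σ₀ r : F) from hσu r, show σ (σ₀ r : F) = _ from hσu _] at h1)
        obtain ⟨j, hj⟩ : Odd (orderOf d) :=
          Odd.of_dvd_nat hS.odd_card (orderOf_dvd_natCard d)
        have hpow : ∀ i : ℕ, (d : G) ^ (2 * i) * T.κ r * ((d : G) ^ (2 * i))⁻¹ = T.κ r := by
          intro i
          induction i with
          | zero => simp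
          | succ i ih =>
            rw [show 2 * (i + 1) = 2 + 2 * i by ring, pow_add, mul_inv_rev,
              show (d : G) ^ 2 * (d : G) ^ (2 * i) * T.κ r * (((d : G) ^ (2 * i))⁻¹ * ((d : G) ^ 2)⁻¹) =
                (d : G) ^ 2 * ((d : G) ^ (2 * i) * T.κ r * ((d : G) ^ (2 * i))⁻¹) * ((d : G) ^ 2)⁻¹ by
                group, ih, pow_two, mul_inv_rev,
              show (d : G) * d * T.κ r * ((d : G)⁻¹ * (d : G)⁻¹) =
                (d : G) * ((d : G) * T.κ r * (d : G)⁻¹) * (d : G)⁻¹ by group, hσ₀, hσ₀, hsig]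
        have h1 := hpow (j + 1)
        have hdj : (d : G) ^ (2 * j + 1) = 1 := by
          rw [← SubgroupClass.coe_pow, ← hj, pow_orderOf_eq_one]; rfl
        rw [show 2 * (j + 1) = 2 * j + 1 + 1 by ring, pow_succ, hdj, one_mul, hσ₀] at h1
        rw [show σ (r : F) = (σ₀ r : F) from hσu r, T.κ_inj h1] }
  exact exists_coords L

end Build

/-- A rank-one set-up with `|Q| = q ^ 3` is `PSU₃(q)` on the subgroup generated by `Q` and `t`. -/
theorem closure_iso_psu (hS : Cfsg.IsRankOneSetup G Ω a t Q)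
    (h2 : ∃ x y : G, x ≠ 1 ∧ y ≠ 1 ∧ x ≠ y ∧ x * x = 1 ∧ y * y = 1 ∧ x * y = y * x)
    (hcard : Nat.card Q = (Nat.card (Cfsg.involutionsIn (stabilizer G a : Set G)) + 1) ^ 3)
    (hsq : ∀ x ∈ Q, (x * x) * (x * x) = 1)
    (hrs : ∀ s ∈ Cfsg.involutionsIn (stabilizer G a : Set G), ∀ r ∈ Q,
      t * s * t = r⁻¹ * t * r → r = s) :
    ∃ (F : Type) (_ : Field F) (_ : Fintype F) (n : ℕ), 2 ≤ n ∧ Fintype.card F = (2 ^ n) ^ 2 ∧
      Nonempty (↥(Subgroup.closure ((Q : Set G) ∪ {t})) ≃* Cfsg.PSU 3 F (2 ^ n)) := by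
  obtain ⟨F₀, _, _, hchar, hq, hqI, ⟨T⟩⟩ := exists_torus hS h2 hrs
  obtain ⟨n, -, hn⟩ := FiniteField.card F₀ 2
  obtain ⟨K, _, _, hK, c, hinj, hok, hsurj, hmul, hmap⟩ :=
    exists_coords_setup hS T hsq hq (by rw [hqI]; exact hcard)
  rw [hn] at hq hK
  simp only [hn] at hok hsurj hmul hmap
  have hn2 : 2 ≤ (n : ℕ) := by
    by_contra hlt
    interval_cases h : (n : ℕ) <;> omega
  refine ⟨K, inferInstance, inferInstance, n, hn2, hK, ?_⟩
  let e : Q ≃ {p : K × K // H52.SUThree.Ok (2 ^ (n : ℕ)) p.1 p.2} :=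
    Equiv.ofBijective (fun x => ⟨c x, hok x⟩)
      ⟨fun x y h => hinj (congrArg Subtype.val h), fun p => by
        obtain ⟨x, hx⟩ := hsurj p.1 p.2
        exact ⟨x, Subtype.ext hx⟩⟩
  refine H99.RankOne.iso_psu (H99.RankOne.isPointed hS) hK (by omega) e hmul ?_
  intro x y hxy
  by_cases hx : x = 1
  · subst hx
    exfalso
    rw [Subgroup.coe_one, one_smul, H38.t_smul_t_smul hS] at hxy
    exact H38.t_smul_ne hS (smul_left_cancel (y : G) (hxy.symm.trans (H38.Q_fix hS y.2).symm))
  have h1 := (form_spec hS hx).smul hS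
  have h3 : y = fQ hS x := Subtype.ext (H38.Q_inj_base hS y.2 (fQ hS x).2 (hxy.symm.trans h1))
  rw [h3]
  exact hmap x hx

end Cfsg.Agent.H36.RankOneU3
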